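import Cfsg.Agent.H930.TTrans
import Cfsg.Agent.LieClassical.HermGen
import Cfsg.Agent.H930.SpInSU
set_option linter.all false

-- part: H930/HS
section
/-!
# Siegel transformations in subgroups of the unitary group (calculus)

`HasS q M u w μ`: the Siegel transformation `x ↦ x + h(x,u) w + (μ h(x,u) - h(x,w)) u` lies in `M`.
`u` isotropic, `w ⟂ u`, `μ + μ^q = - h(w,w)`. For `w = 0` these are the transvections with centre `u`.
-/

set_option autoImplicit false
set_option linter.unusedSectionVars false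

namespace Cfsg.Agent.H930

open Cfsg Cfsg.Geo Cfsg.Agent.H918 Cfsg.Agent.LieClassical.HermBasic Cfsg.Agent.LieClassical.HermSiegel
open scoped Matrix MatrixGroups

variable {F : Type*} [Field F] {n q : ℕ}

/-- The Siegel transformation with parameters `u, w, μ` lies in `M`. -/
def HasS (q : ℕ) (M : Subgroup (GL (Fin n) F)) (u w : Fin n → F) (μ : F) : Prop :=
  IsSiegel q u w μ ∧ ∃ g ∈ M, ∀ x, (g : Matrix (Fin n) (Fin n) F) *ᵥ x =
    x + hermForm n F q x u • w + (μ * hermForm n F q x u - hermForm n F q x w) • u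

variable {M N : Subgroup (GL (Fin n) F)} {u w w' v x : Fin n → F} {μ μ' c d : F}

theorem HasS.mono (h : M ≤ N) (hs : HasS q M u w μ) : HasS q N u w μ := by
  obtain ⟨h0, g, hg, hx⟩ := hs
  exact ⟨h0, g, h hg, hx⟩

theorem HasS.congr (hs : HasS q M u w μ) (hw : w = w') (hμ : μ = μ') : HasS q M u w' μ' := by
  subst hw hμ
  exact hs

variable [Fintype F]

theorem HasS.mul (hF : Fintype.card F = q ^ 2) (h : HasS q M u w μ) (h' : HasS q M u w' μ') :
    HasS q M u (w + w') (μ + μ' - hermForm n F q w' w) := by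
  obtain ⟨h0, g, hg, hx⟩ := h
  obtain ⟨h0', g', hg', hx'⟩ := h'
  refine ⟨h0.mul hF h0', g * g', M.mul_mem hg hg', fun x => ?_⟩
  rw [Units.val_mul, ← Matrix.mulVec_mulVec, hx', hx]
  simp only [herm_add_left, herm_add_right hF, herm_smul_left, h0.iso, h0.orth, h0'.orth,
    h0.orth' hF, h0'.orth' hF]
  ext i
  simp only [Pi.add_apply, Pi.smul_apply, smul_eq_mul]
  ring

theorem HasS.inv (hF : Fintype.card F = q ^ 2) (h : HasS q M u w μ) : HasS q M u (-w) (μ ^ q) := by
  obtain ⟨h0, g, hg, hx⟩ := h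
  refine ⟨h0.inv hF, g⁻¹, M.inv_mem hg, fun x => ?_⟩
  apply Matrix.mulVec_injective_of_isUnit g.isUnit
  rw [mulVec_inv, hx]
  have htr := h0.tr
  have e : μ ^ q = - μ - hermForm n F q w w := by linear_combination htr
  simp only [herm_add_left, herm_smul_left, herm_neg_left, herm_neg_right hF, h0.iso, h0.orth,
    h0.orth' hF, e]
  ext i
  simp only [Pi.add_apply, Pi.smul_apply, Pi.neg_apply, smul_eq_mul]
  ring

theorem HasS.conj (h : HasS q M u w μ) {g : GL (Fin n) F} (hg : g ∈ M)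
    (hgu : ∀ x y, hermForm n F q ((g : Matrix (Fin n) (Fin n) F) *ᵥ x) ((g : Matrix (Fin n) (Fin n) F) *ᵥ y) =
      hermForm n F q x y) :
    HasS q M ((g : Matrix (Fin n) (Fin n) F) *ᵥ u) ((g : Matrix (Fin n) (Fin n) F) *ᵥ w) μ := by
  obtain ⟨h0, t, ht, htx⟩ := h
  refine ⟨⟨by rw [hgu]; exact h0.iso, by rw [hgu]; exact h0.orth, by rw [hgu]; exact h0.tr⟩,
    g * t * g⁻¹, M.mul_mem (M.mul_mem hg ht) (M.inv_mem hg), fun x => ?_⟩
  have e : ∀ y, hermForm n F q (((g⁻¹ : GL (Fin n) F) : Matrix (Fin n) (Fin n) F) *ᵥ x) y =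
      hermForm n F q x ((g : Matrix (Fin n) (Fin n) F) *ᵥ y) := by
    intro y
    have := hgu (((g⁻¹ : GL (Fin n) F) : Matrix (Fin n) (Fin n) F) *ᵥ x) y
    rw [mulVec_inv] at this
    exact this.symm
  rw [Units.val_mul, Units.val_mul, ← Matrix.mulVec_mulVec, ← Matrix.mulVec_mulVec, htx, e, e,
    Matrix.mulVec_add, Matrix.mulVec_add, mulVec_inv, Matrix.mulVec_smul, Matrix.mulVec_smul]

/-- Change the second vector by a multiple of the first. -/
theorem HasS.shift (hF : Fintype.card F = q ^ 2) (h : HasS q M u (w + c • u) μ) :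
    HasS q M u w (μ + c - c ^ q) := by
  obtain ⟨h0, t, ht, htx⟩ := h
  have ho : hermForm n F q w u = 0 := by
    have := h0.orth
    rw [herm_add_left, herm_smul_left, h0.iso, mul_zero, add_zero] at this
    exact this
  have ho' := herm_eq_zero_swap hF ho
  refine ⟨⟨h0.iso, ho, ?_⟩, t, ht, fun x => ?_⟩
  · have := h0.tr
    rw [herm_add_left, herm_add_right hF, herm_add_right hF, herm_smul_left, herm_smul_right,
      herm_smul_left, herm_smul_right, ho, ho', h0.iso] at this
    rw [sub_pow_q hF, add_pow_q hF, pow_q_pow_q hF]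
    linear_combination this
  · rw [htx, herm_add_right hF, herm_smul_right]
    ext i
    simp only [Pi.add_apply, Pi.smul_apply, smul_eq_mul]
    ring

theorem HasS.unshift (hF : Fintype.card F = q ^ 2) (h : HasS q M u w μ) (c : F) :
    HasS q M u (w + c • u) (μ - c + c ^ q) := by
  have h1 : HasS q M u ((w + c • u) + (-c) • u) μ := h.congr (by rw [neg_smul, add_neg_cancel_right]) rfl
  have := h1.shift hF
  rw [neg_pow_q hF] at this
  exact this.congr rfl (by ring)

theorem HasS.cancel (hF : Fintype.card F = q ^ 2) (h : HasS q M u w μ) (h' : HasS q M u w μ') :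
    HasS q M u 0 (μ - μ') := by
  have := h.mul hF (h'.inv hF)
  refine this.congr (add_neg_cancel w) ?_
  have htr := h'.1.tr
  rw [herm_neg_left]
  linear_combination htr

theorem HasS.add_tv (hF : Fintype.card F = q ^ 2) (h : HasS q M u w μ) (h' : HasS q M u 0 d) :
    HasS q M u w (μ + d) := by
  refine (h.mul hF h').congr (add_zero w) ?_
  rw [herm_zero_left, sub_zero]

theorem HasS.comm (hF : Fintype.card F = q ^ 2) (h : HasS q M u w μ) (h' : HasS q M u w' μ') :
    HasS q M u 0 (hermForm n F q w w' - hermForm n F q w' w) := by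
  have h1 := h.mul hF h'
  have h2 := (h'.mul hF h).congr (add_comm w' w) rfl
  refine (h1.cancel hF h2).congr rfl ?_
  ring

theorem HasS.smul_center (hF : Fintype.card F = q ^ 2) (h : HasS q M (c • u) w μ) (hc : c ≠ 0) :
    HasS q M u (c ^ q • w) (c * c ^ q * μ) := by
  obtain ⟨h0, t, ht, htx⟩ := h
  have hcq : c ^ q ≠ 0 := pow_ne_zero _ hc
  have hi : hermForm n F q u u = 0 := by
    have := h0.iso
    rw [herm_smul_left, herm_smul_right] at this
    rcases mul_eq_zero.1 this with h | h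
    · exact absurd h hc
    · rcases mul_eq_zero.1 h with h | h
      · exact absurd h hcq
      · exact h
  have ho : hermForm n F q w u = 0 := by
    have := h0.orth
    rw [herm_smul_right] at this
    exact (mul_eq_zero.1 this).resolve_left hcq
  refine ⟨⟨hi, by rw [herm_smul_left, ho, mul_zero], ?_⟩, t, ht, fun x => ?_⟩
  · have := h0.tr
    rw [herm_smul_left, herm_smul_right, mul_pow, norm_pow_q hF, pow_q_pow_q hF]
    linear_combination (c * c ^ q) * this
  · rw [htx, herm_smul_right, herm_smul_right, pow_q_pow_q hF, smul_smul, smul_smul]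
    congr 2
    · ring_nf
    · ring

/-- The transvection `t_{v,d}` with `v ⟂ u` moves `S(u, x, ν)`; divide by the original. -/
theorem HasS.act (hF : Fintype.card F = q ^ 2) (h : HasS q M u x μ) (ht : HasS q M v 0 d)
    (hvu : hermForm n F q v u = 0) :
    HasS q M u ((d * hermForm n F q x v) • v) ((d * hermForm n F q x v) ^ q * hermForm n F q x v) := by
  obtain ⟨ht0, t, htM, htx⟩ := ht
  have huv : hermForm n F q u v = 0 := herm_eq_zero_swap hF hvu
  have htx' : ∀ y, (t : Matrix (Fin n) (Fin n) F) *ᵥ y = y + (d * hermForm n F q y v) • v := by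
    intro y
    rw [htx, herm_zero_right hF, smul_zero, add_zero, sub_zero]
  have htr : d + d ^ q = 0 := by
    have := ht0.tr
    rwa [herm_zero_left, add_zero] at this
  have htu : ∀ x y, hermForm n F q ((t : Matrix (Fin n) (Fin n) F) *ᵥ x) ((t : Matrix (Fin n) (Fin n) F) *ᵥ y) =
      hermForm n F q x y := by
    intro x y
    rw [htx', htx']
    simp only [herm_add_left, herm_add_right hF, herm_smul_left, herm_smul_right, ht0.iso, mul_pow]
    rw [← herm_swap hF y v]
    linear_combination (hermForm n F q x v * hermForm n F q v y) * htr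
  have h1 := h.conj htM htu
  rw [htx', huv, mul_zero, zero_smul, add_zero, htx'] at h1
  refine (h1.mul hF (h.inv hF)).congr (by abel) ?_
  have := h.1.tr
  rw [herm_neg_left, herm_add_right hF, herm_smul_right]
  linear_combination this

/-- Transvections and `HasS`. -/
theorem hasS_zero_iff (hF : Fintype.card F = q ^ 2) : HasS q M v 0 d ↔
    ∃ (hv : hermForm n F q v v = 0) (hd : d + d ^ q = 0), H918.tv hF v d hv hd ∈ M := by
  constructor
  · rintro ⟨h0, t, ht, htx⟩
    have hd : d + d ^ q = 0 := by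
      have := h0.tr
      rwa [herm_zero_left, add_zero] at this
    refine ⟨h0.iso, hd, ?_⟩
    have : H918.tv hF v d h0.iso hd = t := by
      apply gl_ext
      intro y
      rw [tv_mulVec, htx, herm_zero_right hF, smul_zero, add_zero, sub_zero]
    rw [this]
    exact ht
  · rintro ⟨hv, hd, h⟩
    refine ⟨⟨hv, herm_zero_left v, by rw [herm_zero_left, add_zero]; exact hd⟩, _, h, fun y => ?_⟩
    rw [tv_mulVec, herm_zero_right hF, smul_zero, add_zero, sub_zero]

theorem TT_iff_hasS (hF : Fintype.card F = q ^ 2) : TT q M v ↔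
    hermForm n F q v v = 0 ∧ ∀ d : F, d + d ^ q = 0 → HasS q M v 0 d := by
  constructor
  · rintro h
    refine ⟨h.1, fun d hd => ?_⟩
    rw [hasS_zero_iff hF]
    exact ⟨h.1, hd, h.tv_mem hF hd⟩
  · rintro ⟨hv, h⟩
    refine tt_of_tv hF hv fun c hc => ?_
    obtain ⟨_, _, h'⟩ := (hasS_zero_iff hF).1 (h c hc)
    exact h'

/-- Scaling the centre of a transvection. -/
theorem HasS.smul_tv (hF : Fintype.card F = q ^ 2) (h : HasS q M v 0 (c * c ^ q * d)) (hc : c ≠ 0) :
    HasS q M (c • v) 0 d := by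
  have hc' : c⁻¹ ≠ 0 := inv_ne_zero hc
  have h1 : HasS q M (c⁻¹ • (c • v)) 0 (c * c ^ q * d) := by
    rw [smul_smul, inv_mul_cancel₀ hc, one_smul]; exact h
  have h2 := h1.smul_center hF hc'
  refine h2.congr (smul_zero _) ?_
  rw [inv_pow]
  have : c ^ q ≠ 0 := pow_ne_zero _ hc
  field_simp

/-- Elements of `M` that are isometries and all Siegel transformations. -/
theorem HasS.mem_of (hF : Fintype.card F = q ^ 2) (h : HasS q M u w μ) (hs : IsSiegel q u w μ) :
    suHom n F q (siegel hF u w μ hs) ∈ M := by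
  obtain ⟨h0, t, ht, htx⟩ := h
  have : suHom n F q (siegel hF u w μ hs) = t := by
    apply gl_ext
    intro y
    rw [htx, coe_suHom]
    exact siegelMat_mulVec u w μ y
  rw [this]
  exact ht

theorem hasS_of_mem (hF : Fintype.card F = q ^ 2) (hs : IsSiegel q u w μ)
    (h : suHom n F q (siegel hF u w μ hs) ∈ M) : HasS q M u w μ :=
  ⟨hs, _, h, fun y => by rw [coe_suHom]; exact siegelMat_mulVec u w μ y⟩

end Cfsg.Agent.H930
end

-- part: H930/GUSubA
section
/-!
# The unitary subfield subgroups of `SU_n(q)`: rational transvections and their parameters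

`F₀` a subfield of odd prime index `r` in the field `F` with `q²` elements, `|F₀| = q₀²`. `M` a subgroup of `GL_n(F)`
containing `SU_n(q₀)`. Either `M` contains `SU_n(q)` or all parameters of transvections in `M` with rational centres
are rational.
-/

set_option autoImplicit false
set_option linter.unusedSectionVars false

namespace Cfsg.Agent.H930.GUSub

open Cfsg Cfsg.Geo Cfsg.Agent.H918 Cfsg.Agent.LieClassical.HermBasic Cfsg.Agent.LieClassical.HermSiegel
open Cfsg.Agent.LieClassical.HermGen Cfsg.Agent.H930 Cfsg.Agent.H873.Sub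
open scoped Matrix MatrixGroups

variable {F : Type*} [Field F] [Fintype F] {n q : ℕ} {F₀ : Subfield F} [Fintype F₀] {q₀ : ℕ}

/-- The data: `|F| = q²`, `|F₀| = q₀²` and `x ↦ x^q` restricts to `x ↦ x^q₀`. -/
structure Setup (F₀ : Subfield F) [Fintype F₀] (q q₀ : ℕ) : Prop where
  hF : Fintype.card F = q ^ 2
  hF₀ : Fintype.card F₀ = q₀ ^ 2
  pow_eq : ∀ x : F₀, (x : F) ^ q = ((x ^ q₀ : F₀) : F)

variable (S : Setup F₀ q q₀)

include S

theorem herm_cv (u v : Fin n → F₀) :
    hermForm n F q (cv F₀ u) (cv F₀ v) = ((hermForm n F₀ q₀ u v : F₀) : F) := by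
  simp only [herm_def, cv_apply, S.pow_eq]
  push_cast
  rfl

theorem herm_cv_eq_zero {u v : Fin n → F₀} (h : hermForm n F₀ q₀ u v = 0) :
    hermForm n F q (cv F₀ u) (cv F₀ v) = 0 := by
  rw [herm_cv S, h]; rfl

theorem isSiegel_cv {u w : Fin n → F₀} {μ : F₀} (h : IsSiegel q₀ u w μ) :
    IsSiegel q (cv F₀ u) (cv F₀ w) (μ : F) := by
  refine ⟨herm_cv_eq_zero S h.iso, herm_cv_eq_zero S h.orth, ?_⟩
  rw [herm_cv S, S.pow_eq]
  have := congrArg (fun z : F₀ => (z : F)) h.tr
  simpa using this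

variable {M : Subgroup (GL (Fin n) F)} (hM : subfieldSubgroup F₀ (1 : GL (Fin n) F) ⊓ SUg n F q ≤ M)

omit [Fintype F] [Fintype F₀] S in
theorem rv_one (u : Fin n → F₀) : rv F₀ (1 : GL (Fin n) F) u = cv F₀ u := by
  simp [rv]

include hM

/-- Rational Siegel transformations are in `M`. -/
theorem hasS_rat {u w : Fin n → F₀} {μ : F₀} (h : IsSiegel q₀ u w μ) :
    HasS q M (cv F₀ u) (cv F₀ w) (μ : F) := by
  have hs := isSiegel_cv S h
  apply hasS_of_mem S.hF hs
  apply hM
  refine ⟨?_, suHom_mem _⟩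
  apply mem_subfieldSubgroup_of_rat
  intro x
  rw [rv_one, coe_suHom]
  refine ⟨x + hermForm n F₀ q₀ x u • w + (μ * hermForm n F₀ q₀ x u - hermForm n F₀ q₀ x w) • u, ?_⟩
  rw [rv_one, cv_add, cv_add, cv_smul, cv_smul]
  have := siegelMat_mulVec (q := q) (cv F₀ u) (cv F₀ w) (μ : F) (cv F₀ x)
  rw [herm_cv S, herm_cv S] at this
  push_cast
  exact this

/-- The elements of the group generated by the Siegel transformations over `F₀` lift to `M`. -/
theorem exists_lift {g : SU n F₀ q₀} (hg : g ∈ siegelGroup S.hF₀ n) :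
    ∃ t ∈ M, (∀ x y, hermForm n F q ((t : Matrix (Fin n) (Fin n) F) *ᵥ x) ((t : Matrix (Fin n) (Fin n) F) *ᵥ y) =
      hermForm n F q x y) ∧ ∀ x : Fin n → F₀, (t : Matrix (Fin n) (Fin n) F) *ᵥ cv F₀ x = cv F₀ (act g x) := by
  induction hg using Subgroup.closure_induction with
  | mem g hg =>
    obtain ⟨u, w, μ, h, rfl⟩ := hg
    obtain ⟨hs, -⟩ := hasS_rat S hM h
    refine ⟨_, (hasS_rat S hM h).mem_of S.hF hs, (suHom_mem (siegel S.hF _ _ _ hs)).1, fun x => ?_⟩
    rw [coe_suHom, act_siegel, cv_add, cv_add, cv_smul, cv_smul]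
    have := siegelMat_mulVec (q := q) (cv F₀ u) (cv F₀ w) (μ : F) (cv F₀ x)
    rw [herm_cv S, herm_cv S] at this
    push_cast
    exact this
  | one => exact ⟨1, M.one_mem, fun x y => by simp, fun x => by simp [act_one]⟩
  | mul a b _ _ ha hb =>
    obtain ⟨s, hs, hsu, hsx⟩ := ha
    obtain ⟨t, ht, htu, htx⟩ := hb
    refine ⟨s * t, M.mul_mem hs ht, fun x y => ?_, fun x => ?_⟩
    · rw [Units.val_mul, ← Matrix.mulVec_mulVec, ← Matrix.mulVec_mulVec, hsu, htu]
    · rw [Units.val_mul, ← Matrix.mulVec_mulVec, htx, hsx, act_mul]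
  | inv a _ ha =>
    obtain ⟨s, hs, hsu, hsx⟩ := ha
    refine ⟨s⁻¹, M.inv_mem hs, fun x y => ?_, fun x => ?_⟩
    · rw [← hsu, mulVec_inv, mulVec_inv]
    · have := hsx (act a⁻¹ x)
      rw [act_act_inv] at this
      rw [← this, inv_mulVec]

/-- Transitivity of `M` on rational isotropic vectors. -/
theorem exists_move (hn : 3 ≤ n) {u u' : Fin n → F₀} (h0 : u ≠ 0) (h0' : u' ≠ 0)
    (hu : hermForm n F₀ q₀ u u = 0) (hu' : hermForm n F₀ q₀ u' u' = 0) :
    ∃ t ∈ M, (∀ x y, hermForm n F q ((t : Matrix (Fin n) (Fin n) F) *ᵥ x) ((t : Matrix (Fin n) (Fin n) F) *ᵥ y) =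
      hermForm n F q x y) ∧ (t : Matrix (Fin n) (Fin n) F) *ᵥ cv F₀ u = cv F₀ u' ∧
      ∀ x : Fin n → F₀, ∃ y, (t : Matrix (Fin n) (Fin n) F) *ᵥ cv F₀ x = cv F₀ y := by
  obtain ⟨g, hg, hgu⟩ := exists_map_iso S.hF₀ hn le_rfl (mem_coordSub_top u) (mem_coordSub_top u') h0 h0' hu hu'
  obtain ⟨t, ht, htu, htx⟩ := exists_lift S hM hg.1
  exact ⟨t, ht, htu, by rw [htx, hgu], fun x => ⟨_, htx x⟩⟩

/-- One rational centre, all rational centres. -/
theorem one_all (hn : 3 ≤ n) {u u' : Fin n → F₀} (h0 : u ≠ 0) (h0' : u' ≠ 0)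
    (hu : hermForm n F₀ q₀ u u = 0) (hu' : hermForm n F₀ q₀ u' u' = 0) {d : F}
    (h : HasS q M (cv F₀ u) 0 d) : HasS q M (cv F₀ u') 0 d := by
  obtain ⟨t, ht, htu, htuu, -⟩ := exists_move S hM hn h0 h0' hu hu'
  have := h.conj ht htu
  rwa [htuu, Matrix.mulVec_zero] at this

/-- Scaling by norms. -/
theorem norm_scale {u : Fin n → F₀} (h : ∀ c : F₀, c ≠ 0 → ∀ d : F, HasS q M (cv F₀ u) 0 d → HasS q M (cv F₀ (c • u)) 0 d)
    {d : F} (hd : HasS q M (cv F₀ u) 0 d) {s : F₀} (hs : s ^ q₀ = s) : HasS q M (cv F₀ u) 0 (s * d) := by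
  by_cases hs0 : s = 0
  · subst hs0
    have : HasS q M (cv F₀ u) 0 ((0 : F₀) : F) := by
      have h1 := hd.cancel S.hF hd
      rw [sub_self] at h1
      exact h1
    simpa using this
  obtain ⟨c, hc0, hc⟩ := exists_norm_eq_ne S.hF₀ hs hs0
  have h1 := h c hc0 d hd
  rw [cv_smul] at h1
  have h2 := h1.smul_center S.hF (by simpa using hc0)
  refine h2.congr (smul_zero _) ?_
  rw [S.pow_eq]
  have := congrArg (fun z : F₀ => (z : F)) hc
  simp only [MulMemClass.coe_mul] at this
  rw [this]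

omit M hM

/-! ### Existence of vectors over `F₀` -/

omit S in
/-- A vector orthogonal to `w` but not to `v`. -/
theorem exists_dual {K : Type*} [Field K] [Fintype K] {q₀ : ℕ} (hK : Fintype.card K = q₀ ^ 2) {w v : Fin n → K}
    (hind : ∀ c : K, v ≠ c • w) : ∃ x : Fin n → K, hermForm n K q₀ x w = 0 ∧ hermForm n K q₀ x v ≠ 0 := by
  by_contra hcon
  push Not at hcon
  by_cases hw : w = 0
  · subst hw
    have hv0 : v ≠ 0 := by
      intro h
      exact hind 0 (by rw [h, smul_zero])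
    obtain ⟨y, hy⟩ := exists_herm_ne_zero hK hv0
    apply hy
    apply herm_eq_zero_swap hK
    exact hcon y (herm_zero_right hK y)
  · obtain ⟨y, hy⟩ := exists_herm_ne_zero hK hw
    have hy' : hermForm n K q₀ y w ≠ 0 := by
      intro h
      exact hy (herm_eq_zero_swap hK h)
    set c : K := (hermForm n K q₀ y v / hermForm n K q₀ y w) with hc
    apply hind (c ^ q₀)
    have h0 : v - c ^ q₀ • w = 0 := by
      apply herm_nondeg hK
      intro x
      have h1 := hcon (x - (hermForm n K q₀ x w / hermForm n K q₀ y w) • y) (by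
        rw [herm_sub_left, herm_smul_left]
        field_simp
        ring)
      rw [herm_sub_left, herm_smul_left] at h1
      have h2 : hermForm n K q₀ x (v - c ^ q₀ • w) = 0 := by
        rw [herm_sub_right hK, herm_smul_right, pow_q_pow_q hK, hc]
        field_simp at h1 ⊢
        linear_combination h1
      exact herm_eq_zero_swap hK h2
    exact sub_eq_zero.1 h0

omit S in
/-- A hyperbolic partner of `v` inside the orthogonal space of `w`. -/
theorem exists_partner {K : Type*} [Field K] [Fintype K] {q₀ : ℕ} (hK : Fintype.card K = q₀ ^ 2) {w v : Fin n → K}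
    (hv : hermForm n K q₀ v v = 0) (hvw : hermForm n K q₀ v w = 0) (hind : ∀ c : K, v ≠ c • w) :
    ∃ z : Fin n → K, hermForm n K q₀ z z = 0 ∧ hermForm n K q₀ z w = 0 ∧ hermForm n K q₀ z v = 1 := by
  -- first without isotropy
  obtain ⟨x, hxw, hxv⟩ := exists_dual hK hind
  -- scale and correct
  obtain ⟨x', h1, h2⟩ : ∃ x', hermForm n K q₀ x' v = 1 ∧ hermForm n K q₀ x' w = 0 := by
    refine ⟨(hermForm n K q₀ x v)⁻¹ • x, ?_, ?_⟩
    · rw [herm_smul_left, inv_mul_cancel₀ hxv]
    · rw [herm_smul_left, hxw, mul_zero]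
  have h3 : hermForm n K q₀ v x' = 1 := by rw [herm_swap hK x' v, h1, one_pow]
  obtain ⟨t, ht⟩ := exists_trace_eq hK (c := -hermForm n K q₀ x' x') (by rw [neg_pow_q hK, herm_self_pow hK])
  refine ⟨x' + t • v, ?_, ?_, ?_⟩
  · rw [herm_add_left, herm_add_right hK, herm_add_right hK, herm_smul_left, herm_smul_right, herm_smul_left,
      herm_smul_right, h1, h3, hv]
    linear_combination ht
  · rw [herm_add_left, herm_smul_left, h2, hvw, mul_zero, add_zero]
  · rw [herm_add_left, herm_smul_left, h1, hv, mul_zero, add_zero]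

omit S in
/-- An isotropic vector orthogonal to and independent of a given one, `n ≥ 4`. -/
theorem exists_second {K : Type*} [Field K] [Fintype K] {q₀ : ℕ} (hK : Fintype.card K = q₀ ^ 2) (hn : 4 ≤ n)
    {w : Fin n → K} (hw0 : w ≠ 0) (hw : hermForm n K q₀ w w = 0) :
    ∃ v : Fin n → K, v ≠ 0 ∧ hermForm n K q₀ v v = 0 ∧ hermForm n K q₀ v w = 0 ∧ ∀ c : K, v ≠ c • w := by
  let i0 : Fin n := ⟨0, by omega⟩
  let i1 : Fin n := ⟨1, by omega⟩
  let i2 : Fin n := ⟨2, by omega⟩
  let i3 : Fin n := ⟨3, by omega⟩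
  have h01 : i0 ≠ i1 := by simp [i0, i1]
  have h23 : i2 ≠ i3 := by simp [i2, i3]
  obtain ⟨p, p', a, b, ha, hp, -, hpp, -, hpp'⟩ := exists_hyp_pair (q := q₀) hK h01
  obtain ⟨s, s', c, d, hc, hs, -, hss, -, hss'⟩ := exists_hyp_pair (q := q₀) hK h23
  have hp0 : p ≠ 0 := by
    rintro rfl
    rw [herm_zero_left] at hpp'
    exact zero_ne_one hpp'
  obtain ⟨g, -, hg⟩ := exists_map_iso hK (by omega : 3 ≤ n) le_rfl (mem_coordSub_top p) (mem_coordSub_top w) hp0 hw0 hpp hw
  have hsp : hermForm n K q₀ s p = 0 := by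
    rw [hs, hp]
    simp only [herm_add_left, herm_add_right hK, herm_smul_left, herm_smul_right, herm_single_left, one_mul]
    simp [i0, i1, i2, i3, zero_pow_q hK]
  refine ⟨act g s, ?_, ?_, ?_, ?_⟩
  · intro h
    rw [act_eq_zero] at h
    rw [h, herm_zero_left] at hss'
    exact zero_ne_one hss'
  · rw [herm_act, hss]
  · rw [← hg, herm_act, hsp]
  · intro c h
    rw [← hg, ← act_smul] at h
    have h1 := act_injective g h
    have h2 := congrFun h1 i2
    rw [hs, hp] at h2
    simp [i0, i1, i2, i3] at h2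

end Cfsg.Agent.H930.GUSub
end

-- part: H930/GUSubB
section
/-!
# The unitary subfield subgroups of `SU_n(q)`: the algebra of parameters
-/

set_option autoImplicit false
set_option linter.unusedSectionVars false

namespace Cfsg.Agent.H930.GUSub

open Cfsg Cfsg.Geo Cfsg.Agent.H918 Cfsg.Agent.LieClassical.HermBasic Cfsg.Agent.LieClassical.HermSiegel
open Cfsg.Agent.LieClassical.HermGen Cfsg.Agent.H930 Cfsg.Agent.H873.Sub
open scoped Matrix MatrixGroups

variable {F : Type*} [Field F] [Fintype F] {n q : ℕ} {F₀ : Subfield F} [Fintype F₀] {q₀ : ℕ}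

/-- Parameters of transvections with rational centres. -/
def AA (F₀ : Subfield F) [Fintype F₀] (n q q₀ : ℕ) (M : Subgroup (GL (Fin n) F)) (d : F) : Prop :=
  ∀ u : Fin n → F₀, u ≠ 0 → hermForm n F₀ q₀ u u = 0 → HasS q M (cv F₀ u) 0 d

/-- Parameters of Siegel transformations with rational isotropic vectors. -/
def CC (F₀ : Subfield F) [Fintype F₀] (n q q₀ : ℕ) (M : Subgroup (GL (Fin n) F)) (c : F) : Prop :=
  ∀ w v : Fin n → F₀, w ≠ 0 → hermForm n F₀ q₀ w w = 0 → hermForm n F₀ q₀ v v = 0 →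
    hermForm n F₀ q₀ v w = 0 → ∃ μ, HasS q M (cv F₀ w) (c • cv F₀ v) μ

variable (S : Setup F₀ q q₀)
variable {M : Subgroup (GL (Fin n) F)} (hM : subfieldSubgroup F₀ (1 : GL (Fin n) F) ⊓ SUg n F q ≤ M)

include S in
theorem AA.add {d d' : F} (h : AA F₀ n q q₀ M d) (h' : AA F₀ n q q₀ M d') : AA F₀ n q q₀ M (d + d') :=
  fun u h0 hu => (h u h0 hu).add_tv S.hF (h' u h0 hu)

include S in
theorem AA.sub {d d' : F} (h : AA F₀ n q q₀ M d) (h' : AA F₀ n q q₀ M d') : AA F₀ n q q₀ M (d - d') :=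
  fun u h0 hu => (h u h0 hu).cancel S.hF (h' u h0 hu)

include S hM

theorem AA_of (hn : 3 ≤ n) {u : Fin n → F₀} (h0 : u ≠ 0) (hu : hermForm n F₀ q₀ u u = 0) {d : F}
    (h : HasS q M (cv F₀ u) 0 d) : AA F₀ n q q₀ M d :=
  fun _ h0' hu' => one_all S hM hn h0 h0' hu hu' h

omit hM in
theorem cv_ne_zero {u : Fin n → F₀} (h : u ≠ 0) : cv F₀ u ≠ 0 := by
  intro h0
  apply h
  apply cv_injective (F₀ := F₀)
  rw [h0, cv_zero]

theorem CC_rat (c : F₀) : CC F₀ n q q₀ M (c : F) := by
  intro w v hw0 hw hv hvw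
  refine ⟨((0 : F₀) : F), ?_⟩
  rw [← cv_smul]
  apply hasS_rat S hM
  refine ⟨hw, ?_, ?_⟩
  · rw [herm_smul_left, hvw, mul_zero]
  · rw [herm_smul_left, herm_smul_right, hv, mul_zero, mul_zero, zero_pow_q S.hF₀]
    simp

omit hM in
theorem CC.add {c c' : F} (h : CC F₀ n q q₀ M c) (h' : CC F₀ n q q₀ M c') : CC F₀ n q q₀ M (c + c') := by
  intro w v hw0 hw hv hvw
  obtain ⟨μ, hμ⟩ := h w v hw0 hw hv hvw
  obtain ⟨μ', hμ'⟩ := h' w v hw0 hw hv hvw
  exact ⟨_, (hμ.mul S.hF hμ').congr (add_smul _ _ _).symm rfl⟩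

omit hM in
theorem CC.smul {c : F} (h : CC F₀ n q q₀ M c) (s : F₀) : CC F₀ n q q₀ M (s * c) := by
  intro w v hw0 hw hv hvw
  obtain ⟨μ, hμ⟩ := h w (s • v) hw0 hw (by rw [herm_smul_left, herm_smul_right, hv, mul_zero, mul_zero])
    (by rw [herm_smul_left, hvw, mul_zero])
  refine ⟨μ, hμ.congr ?_ rfl⟩
  rw [cv_smul, smul_smul, mul_comm]

theorem CC.toAA (hn : 4 ≤ n) {c : F} (h : CC F₀ n q q₀ M c) (s : F₀) :
    AA F₀ n q q₀ M (c * s - (c * s) ^ q) := by
  -- some isotropic vector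
  obtain ⟨w, w', a, b, ha, hw, -, hww, -, hww'⟩ := exists_hyp_pair (q := q₀) (n := n) S.hF₀
    (show (⟨0, by omega⟩ : Fin n) ≠ ⟨1, by omega⟩ by simp)
  have hw0 : w ≠ 0 := by
    rintro rfl
    rw [herm_zero_left] at hww'
    exact zero_ne_one hww'
  obtain ⟨v, hv0, hv, hvw, hind⟩ := exists_second S.hF₀ hn hw0 hww
  obtain ⟨z, hz, hzw, hzv⟩ := exists_partner S.hF₀ hv hvw hind
  obtain ⟨μ, hμ⟩ := h w v hw0 hww hv hvw
  have h1 : HasS q M (cv F₀ w) (cv F₀ (s ^ q₀ • z)) ((0 : F₀) : F) := by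
    apply hasS_rat S hM
    refine ⟨hww, ?_, ?_⟩
    · rw [herm_smul_left, hzw, mul_zero]
    · rw [herm_smul_left, herm_smul_right, hz, mul_zero, mul_zero, zero_pow_q S.hF₀]
      simp
  have h2 := hμ.comm S.hF h1
  apply AA_of S hM (by omega) hw0 hww
  refine h2.congr rfl ?_
  rw [cv_smul, herm_smul_left, herm_smul_right, herm_smul_left, herm_smul_right, herm_cv S, herm_cv S,
    hzv, herm_swap S.hF₀ z v, hzv, one_pow, mul_pow, S.pow_eq, S.pow_eq, pow_q_pow_q S.hF₀]
  push_cast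
  ring

theorem AA.mulCC {d c : F} (h : AA F₀ n q q₀ M d) (h' : CC F₀ n q q₀ M c) : CC F₀ n q q₀ M (d * c) := by
  intro w v hw0 hw hv hvw
  by_cases hind : ∀ c : F₀, v ≠ c • w
  · obtain ⟨z, hz, hzw, hzv⟩ := exists_partner S.hF₀ hv hvw hind
    obtain ⟨μ, hμ⟩ := h' w z hw0 hw hz hzw
    have hv0 : v ≠ 0 := by
      intro h0
      exact hind 0 (by rw [h0, zero_smul])
    have h1 := hμ.act S.hF (h v hv0 hv) (herm_cv_eq_zero S hvw)
    refine ⟨_, h1.congr ?_ rfl⟩
    rw [herm_smul_left, herm_cv S, hzv]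
    simp
  · push Not at hind
    obtain ⟨s, rfl⟩ := hind
    have h1 : HasS q M (cv F₀ w) 0 (((0 : F₀) : F)) := by
      have := hasS_rat S hM (u := w) (w := 0) (μ := 0) ⟨hw, herm_zero_left _, by
        rw [herm_zero_left, zero_pow_q S.hF₀]; simp⟩
      rwa [cv_zero] at this
    have h2 := h1.unshift S.hF (d * c * s)
    refine ⟨_, h2.congr ?_ rfl⟩
    rw [cv_smul, smul_smul, zero_add]

omit M hM in
/-- An element of `F₀` moved by the conjugation. -/
theorem exists_moved : ∃ ω : F₀, ω ^ q₀ ≠ ω := exists_not_fixed S.hF₀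

theorem CC.mul (hn : 4 ≤ n) {c c' : F} (h : CC F₀ n q q₀ M c) (h' : CC F₀ n q q₀ M c') :
    CC F₀ n q q₀ M (c * c') := by
  obtain ⟨ω, hω⟩ := exists_moved S
  have h1 := h.toAA S hM hn 1
  have h2 := h.toAA S hM hn ω
  have h3 := (h1.mulCC S hM h').smul S (ω ^ q₀)
  have h4 := (h2.mulCC S hM h').smul S (-1)
  have h5 := (h3.add S h4).smul S (ω ^ q₀ - ω)⁻¹
  have hne : (ω : F) ^ q₀ - ω ≠ 0 := by
    intro h0
    apply hω
    rw [sub_eq_zero] at h0
    exact_mod_cast h0
  convert h5 using 1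
  rw [mul_pow, mul_pow, S.pow_eq, S.pow_eq]
  push_cast
  field_simp
  ring

/-- The subalgebra of parameters. -/
def paramAlg (hn : 4 ≤ n) : Subalgebra F₀ F where
  carrier := {c | CC F₀ n q q₀ M c}
  mul_mem' h h' := CC.mul S hM hn h h'
  add_mem' h h' := CC.add S h h'
  algebraMap_mem' c := CC_rat S hM c

/-- Either all parameters occur or only the rational ones. -/
theorem all_or_rat (hn : 4 ≤ n) {r : ℕ} (hr : r.Prime) (hcard : Fintype.card F = Nat.card F₀ ^ r) :
    (∀ c, CC F₀ n q q₀ M c) ∨ (∀ c, CC F₀ n q q₀ M c → c ∈ F₀) := by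
  have hfin : Module.finrank F₀ F = r := by
    have h1 := Module.natCard_eq_pow_finrank (K := F₀) (V := F)
    rw [Nat.card_eq_fintype_card, hcard] at h1
    have h2 : 1 < Nat.card F₀ := Finite.one_lt_card
    exact (Nat.pow_right_injective h2 h1).symm
  have hs : IsSimpleOrder (Subalgebra F₀ F) :=
    Subalgebra.isSimpleOrder_of_finrank_prime F₀ F (by rw [hfin]; exact hr)
  rcases hs.eq_bot_or_eq_top (paramAlg S hM hn) with h | h
  · right
    intro c hc
    have h1 : c ∈ paramAlg S hM hn := hc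
    rw [h, Algebra.mem_bot] at h1
    obtain ⟨s, hs⟩ := h1
    rw [← hs]
    exact s.2
  · left
    intro c
    have h1 : c ∈ paramAlg S hM hn := by rw [h]; trivial
    exact h1

end Cfsg.Agent.H930.GUSub
end

-- part: H930/GUSubC
section
/-!
# The unitary subfield subgroups of `SU_n(q)`: all parameters
-/

set_option autoImplicit false
set_option linter.unusedSectionVars false
set_option linter.unusedSimpArgs false

namespace Cfsg.Agent.H930.GUSub

open Cfsg Cfsg.Geo Cfsg.Agent.H918 Cfsg.Agent.LieClassical.HermBasic Cfsg.Agent.LieClassical.HermSiegel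
open Cfsg.Agent.LieClassical.HermGen Cfsg.Agent.H930 Cfsg.Agent.H873.Sub
open scoped Matrix MatrixGroups

/-- Two elements of norm `-1`. -/
theorem exists_two_norm {K : Type*} [Field K] [Fintype K] {q : ℕ} (hK : Fintype.card K = q ^ 2) :
    ∃ a a' : K, a ≠ a' ∧ a * a ^ q = -1 ∧ a' * a' ^ q = -1 := by
  have h1 := card_norm_eq hK (c := (-1 : K)) (by rw [neg_pow_q hK, one_pow]) (neg_ne_zero.2 one_ne_zero)
  have h2 : 1 < Nat.card {x : K // x * x ^ q = -1} := by
    rw [h1]
    have := two_le hK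
    omega
  rw [Finite.one_lt_card_iff_nontrivial] at h2
  obtain ⟨a, a', h⟩ := h2
  exact ⟨a, a', fun h' => h (Subtype.ext h'), a.2, a'.2⟩

variable {F : Type*} [Field F] [Fintype F] {n q : ℕ} {F₀ : Subfield F} [Fintype F₀] {q₀ : ℕ}
variable (S : Setup F₀ q q₀)
variable {M : Subgroup (GL (Fin n) F)} (hM : subfieldSubgroup F₀ (1 : GL (Fin n) F) ⊓ SUg n F q ≤ M)

include S in
/-- Some rational isotropic vector is not orthogonal to a given vector. -/
theorem exists_rat_ne (hn : 2 ≤ n) {v : Fin n → F} (hv : v ≠ 0) :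
    ∃ u : Fin n → F₀, u ≠ 0 ∧ hermForm n F₀ q₀ u u = 0 ∧ hermForm n F q v (cv F₀ u) ≠ 0 := by
  obtain ⟨j, hj⟩ : ∃ j, v j ≠ 0 := by
    by_contra hcon
    push Not at hcon
    exact hv (funext hcon)
  obtain ⟨i, hij⟩ : ∃ i, i ≠ j := by
    have : Nontrivial (Fin n) := Fin.nontrivial_iff_two_le.2 hn
    exact exists_ne j
  obtain ⟨a, a', haa, ha, ha'⟩ := exists_two_norm S.hF₀
  have key : ∀ b : F₀, b * b ^ q₀ = -1 → (Pi.single i 1 + b • Pi.single j 1 : Fin n → F₀) ≠ 0 ∧
      hermForm n F₀ q₀ (Pi.single i 1 + b • Pi.single j 1) (Pi.single i 1 + b • Pi.single j 1) = 0 ∧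
      hermForm n F q v (cv F₀ (Pi.single i 1 + b • Pi.single j 1)) = v i + (b : F) ^ q * v j := by
    intro b hb
    refine ⟨fun h0 => ?_, ?_, ?_⟩
    · have := congrFun h0 i
      simp [hij] at this
    · simp only [herm_add_left, herm_add_right S.hF₀, herm_smul_left, herm_smul_right,
        herm_single_right S.hF₀, Pi.single_eq_same, one_pow]
      simp [hij, hij.symm]
      linear_combination hb
    · rw [cv_add, cv_smul, cv_single, cv_single, herm_add_right S.hF, herm_smul_right,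
        herm_single_right S.hF, herm_single_right S.hF]
      simp
  by_cases h1 : v i + (a : F) ^ q * v j = 0
  · refine ⟨_, (key a' ha').1, (key a' ha').2.1, ?_⟩
    rw [(key a' ha').2.2]
    intro h2
    apply haa
    have h3 : ((a : F) ^ q - (a' : F) ^ q) * v j = 0 := by linear_combination h1 - h2
    rcases mul_eq_zero.1 h3 with h4 | h4
    · rw [sub_eq_zero, pow_q_inj S.hF] at h4
      exact_mod_cast h4
    · exact absurd h4 hj
  · exact ⟨_, (key a ha).1, (key a ha).2.1, by rw [(key a ha).2.2]; exact h1⟩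

include S hM

theorem AA_all (hn : 4 ≤ n) (hC : ∀ c, CC F₀ n q q₀ M c) {d : F} (hd : d + d ^ q = 0) : AA F₀ n q q₀ M d := by
  obtain ⟨t, ht⟩ := exists_trace_eq S.hF (c := 1) (one_pow _)
  have := (hC (d * t)).toAA S hM hn 1
  convert this using 1
  have : d ^ q = -d := by linear_combination hd
  rw [OneMemClass.coe_one, mul_one, mul_pow, this]
  linear_combination -d * ht

/-- The full unipotent radical of a rational point. -/
theorem full_radical (hn : 4 ≤ n) (hC : ∀ c, CC F₀ n q q₀ M c) {p : Fin n → F₀} {i0 i1 : Fin n} (h01 : i0 ≠ i1)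
    {a : F₀} (hp : p = Pi.single i0 1 + a • Pi.single i1 1) (hpp : hermForm n F₀ q₀ p p = 0)
    {w : Fin n → F} (hw : hermForm n F q w (cv F₀ p) = 0) : ∃ μ, HasS q M (cv F₀ p) w μ := by
  have hp0 : p ≠ 0 := by
    intro h0
    rw [h0] at hp
    have := congrFun hp i0
    simp [h01] at this
  -- basis vectors
  have hbas : ∀ i, i ≠ i0 → i ≠ i1 → ∀ c : F, ∃ μ, HasS q M (cv F₀ p) (c • Pi.single i 1) μ := by
    intro i hi0 hi1 c
    obtain ⟨j, hj⟩ : ∃ j : Fin n, j ∉ ({i, i0, i1} : Finset (Fin n)) := by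
      by_contra hcon
      push Not at hcon
      have h1 : (Finset.univ : Finset (Fin n)) ⊆ {i, i0, i1} := fun j _ => hcon j
      have h2 := Finset.card_le_card h1
      have h3 := Finset.card_le_three (a := i) (b := i0) (c := i1)
      rw [Finset.card_univ, Fintype.card_fin] at h2
      omega
    simp only [Finset.mem_insert, Finset.mem_singleton, not_or] at hj
    obtain ⟨hji', hj0', hj1'⟩ := hj
    have hji : j ≠ i := hji'
    have hj0 : j ≠ i0 := hj0'
    have hj1 : j ≠ i1 := hj1'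
    obtain ⟨x, x', hxx, hx, hx'⟩ := exists_two_norm S.hF₀
    have key : ∀ b : F₀, b * b ^ q₀ = -1 → 
        hermForm n F₀ q₀ (Pi.single j 1 + b • Pi.single i 1) (Pi.single j 1 + b • Pi.single i 1) = 0 ∧
        hermForm n F₀ q₀ (Pi.single j 1 + b • Pi.single i 1) p = 0 := by
      intro b hb
      refine ⟨?_, ?_⟩
      · simp only [herm_add_left, herm_add_right S.hF₀, herm_smul_left, herm_smul_right,
          herm_single_right S.hF₀, Pi.single_eq_same, one_pow]
        simp [hji, hji.symm]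
        linear_combination hb
      · rw [hp]
        simp only [herm_add_left, herm_add_right S.hF₀, herm_smul_left, herm_smul_right,
          herm_single_right S.hF₀, one_pow]
        simp [hj0.symm, hj1.symm, hi0.symm, hi1.symm]
    have hne : (x : F) - x' ≠ 0 := by
      intro h0
      apply hxx
      rw [sub_eq_zero] at h0
      exact_mod_cast h0
    obtain ⟨μ, hμ⟩ := hC (c * ((x : F) - x')⁻¹) p _ hp0 hpp (key x hx).1 (key x hx).2
    obtain ⟨μ', hμ'⟩ := hC (-(c * ((x : F) - x')⁻¹)) p _ hp0 hpp (key x' hx').1 (key x' hx').2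
    refine ⟨_, (hμ.mul S.hF hμ').congr ?_ rfl⟩
    rw [cv_add, cv_add, cv_smul, cv_smul, cv_single, cv_single]
    ext k
    simp only [Pi.add_apply, Pi.smul_apply, smul_eq_mul]
    field_simp
    ring
  have hsum : ∀ s : Finset (Fin n), i0 ∉ s → i1 ∉ s →
      ∃ μ, HasS q M (cv F₀ p) (∑ i ∈ s, w i • (Pi.single i 1 : Fin n → F)) μ := by
    intro s
    induction s using Finset.induction_on with
    | empty =>
      intro _ _
      refine ⟨0, ?_⟩
      rw [Finset.sum_empty]
      exact AA_all S hM hn hC (by rw [zero_pow_q S.hF, add_zero]) p hp0 hpp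
    | insert i s his ih =>
      intro h0 h1
      rw [Finset.mem_insert, not_or] at h0 h1
      obtain ⟨μ, hμ⟩ := ih h0.2 h1.2
      obtain ⟨μ', hμ'⟩ := hbas i (Ne.symm h0.1) (Ne.symm h1.1) (w i)
      rw [Finset.sum_insert his]
      exact ⟨_, hμ'.mul S.hF hμ⟩
  obtain ⟨μ, hμ⟩ := hsum (Finset.univ \ {i0, i1}) (by simp) (by simp)
  refine ⟨_, (hμ.unshift S.hF (w i0)).congr ?_ rfl⟩
  have haa : (a : F) * (a : F) ^ q = -1 := by
    rw [hp] at hpp
    simp only [herm_add_left, herm_add_right S.hF₀, herm_smul_left, herm_smul_right,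
          herm_single_right S.hF₀, Pi.single_eq_same, one_pow] at hpp
    simp [h01, h01.symm] at hpp
    have h1 : a * a ^ q₀ = -1 := by linear_combination hpp
    have h2 := congrArg (fun z : F₀ => (z : F)) h1
    push_cast at h2
    rw [S.pow_eq]
    push_cast
    exact h2
  have hw' : w i0 + (a : F) ^ q * w i1 = 0 := by
    rw [hp, cv_add, cv_smul, cv_single, cv_single, herm_add_right S.hF, herm_smul_right,
      herm_single_right S.hF, herm_single_right S.hF] at hw
    simpa using hw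
  have hw1 : w i1 = w i0 * a := by linear_combination (-(a : F)) * hw' + w i1 * haa
  rw [hp, cv_add, cv_smul, cv_single, cv_single]
  ext k
  rw [Pi.add_apply, Finset.sum_apply]
  simp only [Pi.smul_apply, Pi.add_apply, smul_eq_mul, Pi.single_apply, mul_ite, mul_one, mul_zero]
  rw [Finset.sum_ite_eq]
  by_cases hk0 : k = i0
  · subst hk0
    simp [h01]
  · by_cases hk1 : k = i1
    · subst hk1
      simp [hk0, hw1]
    · simp [hk0, hk1]

/-- All parameters: `M` contains `SU_n(q)`. -/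
theorem SUg_le_of_all (hn : 4 ≤ n) (hC : ∀ c, CC F₀ n q q₀ M c) : SUg n F q ≤ M := by
  apply SUg_le_of_TT S.hF (by omega)
  intro v hv
  by_cases hv0 : v = 0
  · subst hv0
    exact ⟨hv, fun c _ => ⟨1, M.one_mem, fun x => by simp⟩⟩
  have h01 : (⟨0, by omega⟩ : Fin n) ≠ ⟨1, by omega⟩ := by simp
  obtain ⟨p, p', a, b, ha, hp, hp', hpp, hpp', hppp⟩ := exists_hyp_pair (q := q₀) (n := n) S.hF₀ h01
  have hp0 : p ≠ 0 := by
    rintro rfl
    rw [herm_zero_left] at hppp
    exact zero_ne_one hppp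
  have hp0' : p' ≠ 0 := by
    rintro rfl
    rw [herm_zero_right S.hF₀] at hppp
    exact zero_ne_one hppp
  obtain ⟨u, hu0, huu, hvu⟩ := exists_rat_ne S (by omega) hv0
  obtain ⟨t, ht, htu, htp, -⟩ := exists_move S hM (by omega) hp0 hu0 hpp huu
  -- pull back
  set v₁ := ((t⁻¹ : GL (Fin n) F) : Matrix (Fin n) (Fin n) F) *ᵥ v with hv₁
  have htv : (t : Matrix (Fin n) (Fin n) F) *ᵥ v₁ = v := by rw [hv₁, mulVec_inv]
  have hv₁v₁ : hermForm n F q v₁ v₁ = 0 := by rw [← htu, htv, hv]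
  have hv₁p : hermForm n F q v₁ (cv F₀ p) ≠ 0 := by rw [← htu, htv, htp]; exact hvu
  suffices h : TT q M v₁ by
    have := h.conj ht htu
    rwa [htv] at this
  clear_value v₁
  suffices h : ∀ v₂, hermForm n F q v₂ v₂ = 0 → hermForm n F q v₂ (cv F₀ p) = 1 → TT q M v₂ by
    apply TT.of_smul S.hF (inv_ne_zero hv₁p)
    apply h
    · rw [herm_smul_left, herm_smul_right, hv₁v₁, mul_zero, mul_zero]
    · rw [herm_smul_left, inv_mul_cancel₀ hv₁p]
  intro v₂ hv₂ hv₂p
  have hP' : hermForm n F q (cv F₀ p') (cv F₀ p') = 0 := herm_cv_eq_zero S hpp'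
  have hP : hermForm n F q (cv F₀ p) (cv F₀ p) = 0 := herm_cv_eq_zero S hpp
  have hPP' : hermForm n F q (cv F₀ p) (cv F₀ p') = 1 := by rw [herm_cv S, hppp]; rfl
  have hP'P : hermForm n F q (cv F₀ p') (cv F₀ p) = 1 := by rw [herm_swap S.hF (cv F₀ p) (cv F₀ p'), hPP', one_pow]
  have hw : hermForm n F q (v₂ - cv F₀ p') (cv F₀ p) = 0 := by
    rw [herm_sub_left, hv₂p, hP'P, sub_self]
  obtain ⟨μ, hμ⟩ := full_radical S hM hn hC h01 hp hpp hw
  -- correct the parameter
  have htr : (hermForm n F q (cv F₀ p') v₂) + (hermForm n F q (cv F₀ p') v₂) ^ q =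
      -hermForm n F q (v₂ - cv F₀ p') (v₂ - cv F₀ p') := by
    rw [← herm_swap S.hF, herm_sub_left, herm_sub_right S.hF, herm_sub_right S.hF, hv₂, hP']
    ring
  have hμ' := hμ.1.tr
  have hd : AA F₀ n q q₀ M (hermForm n F q (cv F₀ p') v₂ - μ) := by
    apply AA_all S hM hn hC
    rw [sub_pow_q S.hF]
    linear_combination htr - hμ'
  have h1 := hμ.add_tv S.hF (hd p hp0 hpp)
  obtain ⟨h0, g, hg, hgx⟩ := h1.congr rfl (show μ + (hermForm n F q (cv F₀ p') v₂ - μ) = hermForm n F q (cv F₀ p') v₂ by ring)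
  have hgu : ∀ x y, hermForm n F q ((g : Matrix (Fin n) (Fin n) F) *ᵥ x) ((g : Matrix (Fin n) (Fin n) F) *ᵥ y) =
      hermForm n F q x y := by
    have hge : g = suHom n F q (siegel S.hF _ _ _ h0) := by
      apply gl_ext
      intro y
      rw [hgx, coe_suHom]
      exact (siegelMat_mulVec _ _ _ y).symm
    rw [hge]
    exact (suHom_mem (siegel S.hF _ _ _ h0)).1
  have hgp : (g : Matrix (Fin n) (Fin n) F) *ᵥ cv F₀ p' = v₂ := by
    rw [hgx, hP'P, herm_sub_right S.hF, hP']
    ext k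
    simp
  have h2 : TT q M (cv F₀ p') := by
    rw [TT_iff_hasS S.hF]
    exact ⟨hP', fun d hd => AA_all S hM hn hC hd p' hp0' hpp'⟩
  have h3 := h2.conj hg hgu
  rwa [hgp] at h3

end Cfsg.Agent.H930.GUSub
end
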