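import Cfsg.Agent.H930.PrmB_m3
import Cfsg.Agent.H879.ExtSymp
import Cfsg.Agent.S0242
import Cfsg.Agent.H930.ExtUJ
import Cfsg.Agent.S0277
import Cfsg.Agent.Prune
set_option linter.all false

section
prune_inst 0x7f00000000000000000000000000000000000000000000000000000000000000000000000000000000000000000000000000000000000000000000000000000000000000000000000000000000000000003fffffffffffffffffffffffffffbeffbdfffffffd

-- part: H930/SpOrdA
section
set_option linter.all false
open scoped Cfsg.Agent.FastGrp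

/-!
# Orders of normalisers of field subalgebras in isometry groups

`card_norm` : elements of `N(ρ(K))` preserving `f` correspond to pairs `(σ, A)`, `σ ∈ Gal(K/F)`, `A ∈ GL_m(K)`.
-/

set_option autoImplicit false
set_option linter.unusedSectionVars false

namespace Cfsg.Agent.H930.SpOrd

open Module Matrix Cfsg Cfsg.Geo
open scoped MatrixGroups Matrix
open Cfsg.Agent.H879 (toEq toEq_apply)
open Cfsg.Agent.H879.ExtField (modOf)
open Cfsg.Agent.H926.Cc (conjHom conjHom_apply conjHom_mul exists_sigma mem_normalizer_of_conjHom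
  conjHom_of_mem_normalizer)

variable {ι : Type} [Fintype ι] [DecidableEq ι] [Nonempty ι] {F K : Type*} [Field F] [Finite F] [Field K] [Algebra F K]
  [FiniteDimensional F K] {m : ℕ}

/-- The semilinear map of `(σ, A)`. -/
def semi (A : GL (Fin m) K) (σ : K ≃ₐ[F] K) (x : Fin m → K) : Fin m → K :=
  (A : Matrix (Fin m) (Fin m) K) *ᵥ (fun i => σ (x i))

theorem semi_add (A : GL (Fin m) K) (σ : K ≃ₐ[F] K) (x y : Fin m → K) :
    semi A σ (x + y) = semi A σ x + semi A σ y := by
  unfold semi
  rw [← Matrix.mulVec_add]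
  congr 1
  ext i
  simp

theorem semi_smul (A : GL (Fin m) K) (σ : K ≃ₐ[F] K) (k : K) (x : Fin m → K) :
    semi A σ (k • x) = σ k • semi A σ x := by
  unfold semi
  rw [← Matrix.mulVec_smul]
  congr 1
  ext i
  simp

/-- **Elements normalising the field.** -/
theorem card_norm (ρ : K →ₐ[F] Matrix ι ι F) (β : (Fin m → K) ≃ₗ[F] (ι → F))
    (hβ : ∀ (k : K) (x : Fin m → K), β (k • x) = ρ k *ᵥ β x) (f : (ι → F) → (ι → F) → F)
    (S : Subgroup (GL ι F)) (hS : ∀ g : GL ι F, g ∈ S ↔
      ∀ x y, f ((g : Matrix ι ι F) *ᵥ x) ((g : Matrix ι ι F) *ᵥ y) = f x y) :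
    Nat.card ↥(subalgebraNormalizer ρ.range ⊓ S) =
      Nat.card {t : (K ≃ₐ[F] K) × GL (Fin m) K //
        ∀ x y, f (β (semi t.2 t.1 x)) (β (semi t.2 t.1 y)) = f (β x) (β y)} := by
  classical
  -- the matrix of a semilinear map
  have hmat : ∀ (g : GL ι F) (σ : K ≃ₐ[F] K), (∀ e, (g : Matrix ι ι F) * ρ e = ρ (σ e) * (g : Matrix ι ι F)) →
      ∃ A : GL (Fin m) K, ∀ x, (g : Matrix ι ι F) *ᵥ β x = β (semi A σ x) := by
    intro g σ hg
    -- a K-linear equivalence
    let T : (Fin m → K) → (Fin m → K) := fun x => β.symm ((g : Matrix ι ι F) *ᵥ β (fun i => σ.symm (x i)))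
    have hβs : ∀ (k : K) (v : ι → F), β.symm (ρ k *ᵥ v) = k • β.symm v := by
      intro k v
      apply β.injective
      rw [hβ, LinearEquiv.apply_symm_apply, LinearEquiv.apply_symm_apply]
    let L : (Fin m → K) →ₗ[K] (Fin m → K) :=
      { toFun := T
        map_add' := fun x y => by
          show β.symm _ = β.symm _ + β.symm _
          rw [← map_add, ← Matrix.mulVec_add, ← map_add]
          congr 3
          ext i
          simp
        map_smul' := fun k x => by
          show β.symm _ = k • β.symm _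
          rw [← hβs, Matrix.mulVec_mulVec]
          have h1 : (fun i => σ.symm ((k • x) i)) = σ.symm k • (fun i => σ.symm (x i)) := by
            ext i
            simp
          rw [h1, hβ, Matrix.mulVec_mulVec, hg, AlgEquiv.apply_symm_apply] }
    have hLinj : Function.Injective L := by
      intro x y hxy
      have h1 : β.symm ((g : Matrix ι ι F) *ᵥ β (fun i => σ.symm (x i))) =
        β.symm ((g : Matrix ι ι F) *ᵥ β (fun i => σ.symm (y i))) := hxy
      have h2 := β.symm.injective h1
      have h3 := congrArg (fun v => ((g⁻¹ : GL ι F) : Matrix ι ι F) *ᵥ v) h2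
      simp only [Matrix.mulVec_mulVec, ← Units.val_mul, inv_mul_cancel, Units.val_one, Matrix.one_mulVec] at h3
      have h4 := β.injective h3
      ext i
      exact σ.symm.injective (congrFun h4 i)
    have hM : IsUnit (LinearMap.toMatrix' L) := by
      rw [LinearMap.isUnit_toMatrix'_iff]
      rw [LinearMap.isUnit_iff_ker_eq_bot, LinearMap.ker_eq_bot]
      exact hLinj
    obtain ⟨A, hA⟩ := hM
    refine ⟨A, fun x => ?_⟩
    have h1 : semi A σ x = L (fun i => σ (x i)) := by
      unfold semi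
      rw [hA, LinearMap.toMatrix'_mulVec]
    rw [h1]
    show _ = β (β.symm _)
    rw [LinearEquiv.apply_symm_apply]
    congr 2
    ext i
    simp
  have hex : ∀ g : ↥(subalgebraNormalizer ρ.range ⊓ S), ∃ t : (K ≃ₐ[F] K) × GL (Fin m) K,
      (∀ e, ((g : GL ι F) : Matrix ι ι F) * ρ e = ρ (t.1 e) * ((g : GL ι F) : Matrix ι ι F)) ∧
      ∀ x, ((g : GL ι F) : Matrix ι ι F) *ᵥ β x = β (semi t.2 t.1 x) := by
    rintro ⟨g, hg⟩
    obtain ⟨σ, hσ⟩ := exists_sigma (conjHom_of_mem_normalizer hg.1)
    obtain ⟨A, hA⟩ := hmat g σ hσ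
    exact ⟨(σ, A), hσ, hA⟩
  choose t ht1 ht2 using hex
  let Ψ : ↥(subalgebraNormalizer ρ.range ⊓ S) → {t : (K ≃ₐ[F] K) × GL (Fin m) K //
        ∀ x y, f (β (semi t.2 t.1 x)) (β (semi t.2 t.1 y)) = f (β x) (β y)} := fun g =>
    ⟨t g, fun x y => by
      rw [← ht2, ← ht2]
      exact (hS _).1 g.2.2 _ _⟩
  apply Nat.card_congr
  refine Equiv.ofBijective Ψ ⟨?_, ?_⟩
  · intro g h hgh
    have h1 : t g = t h := congrArg Subtype.val hgh
    apply Subtype.ext
    apply Units.ext
    apply Matrix.mulVec_injective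
    funext v
    obtain ⟨x, rfl⟩ := β.surjective v
    rw [ht2, ht2, h1]
  · rintro ⟨⟨σ, A⟩, hs⟩
    -- the element
    let L : (ι → F) →ₗ[F] (ι → F) :=
      { toFun := fun v => β (semi A σ (β.symm v))
        map_add' := fun v w => by rw [map_add, semi_add, map_add]
        map_smul' := fun c v => by
          rw [map_smul, RingHom.id_apply]
          have h1 : c • β.symm v = algebraMap F K c • β.symm v := by
            ext i
            simp [Algebra.smul_def]
          have h2 : ∀ w : Fin m → K, algebraMap F K c • w = c • w := by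
            intro w
            ext i
            simp [Algebra.smul_def]
          rw [h1, semi_smul, σ.commutes, h2, map_smul] }
    have hLinj : Function.Injective L := by
      intro v w hvw
      have h1 : β (semi A σ (β.symm v)) = β (semi A σ (β.symm w)) := hvw
      have h2 := β.injective h1
      have h3 := congrArg (fun v => ((A⁻¹ : GL (Fin m) K) : Matrix (Fin m) (Fin m) K) *ᵥ v) h2
      unfold semi at h3
      simp only [Matrix.mulVec_mulVec, ← Units.val_mul, inv_mul_cancel, Units.val_one, Matrix.one_mulVec] at h3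
      apply β.symm.injective
      ext i
      exact σ.injective (congrFun h3 i)
    have hM : IsUnit (LinearMap.toMatrix' L) := by
      rw [LinearMap.isUnit_toMatrix'_iff]
      rw [LinearMap.isUnit_iff_ker_eq_bot, LinearMap.ker_eq_bot]
      exact hLinj
    obtain ⟨g, hg⟩ := hM
    have hgx : ∀ x, (g : Matrix ι ι F) *ᵥ β x = β (semi A σ x) := by
      intro x
      rw [hg, LinearMap.toMatrix'_mulVec]
      show β (semi A σ (β.symm (β x))) = _
      rw [LinearEquiv.symm_apply_apply]
    have hsem : ∀ e, (g : Matrix ι ι F) * ρ e = ρ (σ e) * (g : Matrix ι ι F) := by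
      intro e
      apply Matrix.mulVec_injective
      funext v
      obtain ⟨x, rfl⟩ := β.surjective v
      show ((g : Matrix ι ι F) * ρ e) *ᵥ β x = (ρ (σ e) * (g : Matrix ι ι F)) *ᵥ β x
      rw [← Matrix.mulVec_mulVec, ← Matrix.mulVec_mulVec, ← hβ, hgx, hgx, semi_smul, hβ]
    have hgN : g ∈ subalgebraNormalizer ρ.range := by
      apply mem_normalizer_of_conjHom
      intro e
      refine ⟨σ e, ?_⟩
      show ρ (σ e) = (g : Matrix ι ι F) * ρ e * ((g⁻¹ : GL ι F) : Matrix ι ι F)
      rw [hsem e, mul_assoc, ← Units.val_mul, mul_inv_cancel, Units.val_one, mul_one]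
    have hgS : g ∈ S := by
      rw [hS]
      intro v w
      obtain ⟨x, rfl⟩ := β.surjective v
      obtain ⟨y, rfl⟩ := β.surjective w
      rw [hgx, hgx]
      exact hs x y
    refine ⟨⟨g, hgN, hgS⟩, ?_⟩
    apply Subtype.ext
    set τ := t ⟨g, hgN, hgS⟩ with hτ
    have h1 : τ.1 = σ := by
      ext e
      have h2 := ht1 ⟨g, hgN, hgS⟩ e
      have h3 := hsem e
      have h4 : ρ (τ.1 e) * (g : Matrix ι ι F) = ρ (σ e) * (g : Matrix ι ι F) := by
        rw [← h3]; exact h2.symm
      have h5 : ρ (τ.1 e) = ρ (σ e) := by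
        have h6 := congrArg (fun M => M * ((g⁻¹ : GL ι F) : Matrix ι ι F)) h4
        simp only [mul_assoc, ← Units.val_mul, mul_inv_cancel, Units.val_one, mul_one] at h6
        exact h6
      exact ρ.toRingHom.injective h5
    have h2 : τ.2 = A := by
      apply Units.ext
      apply Matrix.mulVec_injective
      funext x
      have h3 := ht2 ⟨g, hgN, hgS⟩ (fun i => σ.symm (x i))
      have h4 := hgx (fun i => σ.symm (x i))
      have h5 := β.injective (h3.symm.trans h4)
      rw [← hτ, h1] at h5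
      unfold semi at h5
      simpa using h5
    exact Prod.ext h1 h2

end Cfsg.Agent.H930.SpOrd
end

-- part: H930/SpOrdC
section
set_option linter.all false
open scoped Cfsg.Agent.FastGrp

-- part: H930/SpOrdB
section
/-!
# The order of `Sp₂(q²).2 < Sp₄(q)`
-/

set_option autoImplicit false
set_option linter.unusedSectionVars false

namespace Cfsg.Agent.H930.SpOrd

open Module Matrix Cfsg Cfsg.Geo
open scoped MatrixGroups Matrix
open Cfsg.Agent.ClassicalGeometry.SympBasic
open Cfsg.Agent.H879.ExtField (modOf exists_phi ell_ext exists_rep)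

/-- `|SL₂(K)|` -/
theorem card_SL2 {K : Type*} [Field K] [Fintype K] {q : ℕ} (hq : Fintype.card K = q) :
    Nat.card (Matrix.SpecialLinearGroup (Fin 2) K) = q * (q ^ 2 - 1) := by
  have h1 := Cfsg.Agent.S0242.result hq 2 (by norm_num)
  rw [Fin.prod_univ_two] at h1
  have h2 : 2 ≤ q := by rw [← hq]; exact Fintype.one_lt_card
  obtain ⟨t, rfl⟩ := Nat.exists_eq_add_of_le h2
  have e1 : (2 + t) - 1 = t + 1 := by omega
  have e2 : (2 + t) ^ 2 - 1 = (t + 1) * (t + 3) := by
    have : (2 + t) ^ 2 = (t + 1) * (t + 3) + 1 := by ring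
    omega
  have e3 : (2 + t) ^ 2 - (2 + t) ^ ((0 : Fin 2) : ℕ) = (t + 1) * (t + 3) := by
    rw [Fin.val_zero, pow_zero, e2]
  have e4 : (2 + t) ^ 2 - (2 + t) ^ ((1 : Fin 2) : ℕ) = (2 + t) * (t + 1) := by
    have : (2 + t) ^ 2 = (2 + t) * (t + 1) + (2 + t) := by ring
    rw [Fin.val_one, pow_one]
    omega
  rw [e1, e3, e4] at h1
  rw [e2]
  apply Nat.eq_of_mul_eq_mul_left (by omega : 0 < t + 1)
  rw [h1]
  ring

/-- The determinant of two vectors. -/
def dt {K : Type*} [CommRing K] (x y : Fin 2 → K) : K := x 0 * y 1 - x 1 * y 0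

theorem dt_mulVec {K : Type*} [CommRing K] (A : Matrix (Fin 2) (Fin 2) K) (x y : Fin 2 → K) :
    dt (A *ᵥ x) (A *ᵥ y) = A.det * dt x y := by
  unfold dt
  rw [Matrix.det_fin_two]
  simp only [Matrix.mulVec, dotProduct, Fin.sum_univ_two]
  ring

theorem dt_semi {F K : Type*} [Field F] [Field K] [Algebra F K] (A : GL (Fin 2) K) (σ : K ≃ₐ[F] K)
    (x y : Fin 2 → K) : dt (semi A σ x) (semi A σ y) = (A : Matrix (Fin 2) (Fin 2) K).det * σ (dt x y) := by
  unfold semi
  rw [dt_mulVec]
  congr 1
  unfold dt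
  simp only [map_sub, map_mul]

/-- Matrices with prescribed determinants. -/
theorem card_det {G K : Type*} [Field K] [Finite K] (c : G → K) (hc : ∀ g, c g ≠ 0) :
    Nat.card {t : G × GL (Fin 2) K // (t.2 : Matrix (Fin 2) (Fin 2) K).det = c t.1} =
      Nat.card G * Nat.card (Matrix.SpecialLinearGroup (Fin 2) K) := by
  rw [← Nat.card_prod]
  apply Nat.card_congr
  let D : G → GL (Fin 2) K := fun g => Matrix.GeneralLinearGroup.mkOfDetNeZero !![c g, 0; 0, 1] (by
    rw [Matrix.det_fin_two_of]; simpa using hc g)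
  have hD : ∀ g, ((D g : GL (Fin 2) K) : Matrix (Fin 2) (Fin 2) K).det = c g := by
    intro g
    show (!![c g, 0; 0, 1] : Matrix (Fin 2) (Fin 2) K).det = c g
    rw [Matrix.det_fin_two_of]; ring
  exact
    { toFun := fun t => (t.1.1, ⟨(((D t.1.1)⁻¹ * t.1.2 : GL (Fin 2) K) : Matrix (Fin 2) (Fin 2) K), by
        have h1 := congrArg Matrix.det (congrArg Units.val (mul_inv_cancel_left (D t.1.1) t.1.2))
        rw [Units.val_mul, Matrix.det_mul, hD, t.2] at h1
        exact mul_left_cancel₀ (hc t.1.1) (by rw [h1, mul_one])⟩)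
      invFun := fun t => ⟨(t.1, D t.1 * (t.2 : GL (Fin 2) K)), by
        show ((D t.1 * (t.2 : GL (Fin 2) K) : GL (Fin 2) K) : Matrix (Fin 2) (Fin 2) K).det = _
        rw [Units.val_mul, Matrix.det_mul, hD]
        have : ((t.2 : GL (Fin 2) K) : Matrix (Fin 2) (Fin 2) K).det = 1 := t.2.2
        rw [this, mul_one]⟩
      left_inv := fun t => by
        apply Subtype.ext
        refine Prod.ext rfl ?_
        apply Units.ext
        show ((D t.1.1 : GL (Fin 2) K) : Matrix (Fin 2) (Fin 2) K) *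
          (((D t.1.1)⁻¹ * t.1.2 : GL (Fin 2) K) : Matrix (Fin 2) (Fin 2) K) = _
        rw [← Units.val_mul, mul_inv_cancel_left]
      right_inv := fun t => by
        refine Prod.ext rfl ?_
        apply Subtype.ext
        show (((D t.1)⁻¹ * (D t.1 * (t.2 : GL (Fin 2) K)) : GL (Fin 2) K) : Matrix (Fin 2) (Fin 2) K) = _
        rw [inv_mul_cancel_left]
        rfl }

abbrev I4 : Type := Fin 2 ⊕ Fin 2

theorem card_I4 : Fintype.card I4 = 4 := by decide

variable {F : Type*} [Field F] [Fintype F]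

theorem card_four {E : Type*} [Field E] [Algebra F E] [FiniteDimensional F E] (hfr : finrank F E = 2)
    (ρ : E →ₐ[F] Matrix I4 I4 F) (hsa : ∀ k x y, sympForm 2 F (ρ k *ᵥ x) y = sympForm 2 F x (ρ k *ᵥ y))
    (halt : ∀ k x, sympForm 2 F (ρ k *ᵥ x) x = 0) :
    Nat.card ↥(subalgebraNormalizer ρ.range ⊓ spGL 2 F) = 2 * (Nat.card F ^ 2 * (Nat.card F ^ 4 - 1)) := by
  have hfin : Finite E := Module.finite_of_finite F
  let _ : Fintype E := Fintype.ofFinite E
  let instM : Module E (I4 → F) := modOf ρ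
  have hsmul : ∀ (k : E) (v : I4 → F), k • v = ρ k *ᵥ v := fun _ _ => rfl
  have instT : IsScalarTower F E (I4 → F) := by
    refine ⟨fun c k v => ?_⟩
    rw [hsmul, hsmul, map_smul, smul_mulVec]
  obtain ⟨ℓ, hℓ⟩ : ∃ ℓ : E →ₗ[F] F, ℓ ≠ 0 := exists_ne 0
  obtain ⟨φ, hφ, hφa⟩ := exists_phi (V := I4 → F) hℓ (sympForm 2 F)
    sympForm_add_left sympForm_add_right sympForm_smul_left
    (fun k x y => by rw [hsmul, hsmul, hsa]) (fun k x => by rw [hsmul, halt])
  have hskew : ∀ x y, φ x y = - φ y x := by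
    intro x y
    have := hφa (x + y)
    simp only [map_add, LinearMap.add_apply, hφa, zero_add, add_zero] at this
    exact eq_neg_of_add_eq_zero_right this
  -- a hyperbolic pair
  obtain ⟨u, w, huw⟩ : ∃ u w, φ u w = 1 := by
    obtain ⟨x, hx⟩ : ∃ x : I4 → F, x ≠ 0 := exists_ne 0
    obtain ⟨y, hy⟩ : ∃ y, φ x y ≠ 0 := by
      by_contra hcon
      push Not at hcon
      apply hx
      apply eq_zero_of_forall_sympForm_right
      intro w
      rw [← hφ, hcon, map_zero]
    refine ⟨x, (φ x y)⁻¹ • y, ?_⟩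
    rw [map_smul, smul_eq_mul, inv_mul_cancel₀ hy]
  let β₀ : (Fin 2 → E) →ₗ[F] (I4 → F) :=
    { toFun := fun x => x 0 • u + x 1 • w
      map_add' := fun x y => by
        simp only [Pi.add_apply, add_smul]
        abel
      map_smul' := fun c x => by
        simp only [Pi.smul_apply, smul_assoc, RingHom.id_apply, smul_add] }
  have hβ₀ : ∀ x, β₀ x = x 0 • u + x 1 • w := fun _ => rfl
  have hφβ : ∀ x y, φ (β₀ x) (β₀ y) = dt x y := by
    intro x y
    rw [hβ₀, hβ₀]
    simp only [map_add, LinearMap.add_apply, map_smul, LinearMap.smul_apply, smul_eq_mul, hφa, huw, hskew w u]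
    unfold dt
    ring
  have hinj : Function.Injective β₀ := by
    rw [← LinearMap.ker_eq_bot, LinearMap.ker_eq_bot']
    intro x hx
    have h1 := hφβ x ![0, 1]
    have h2 := hφβ x ![1, 0]
    rw [hx, map_zero, LinearMap.zero_apply] at h1 h2
    unfold dt at h1 h2
    simp at h1 h2
    ext i
    fin_cases i
    · exact h1.symm
    · exact h2
  let β : (Fin 2 → E) ≃ₗ[F] (I4 → F) := LinearEquiv.ofInjectiveOfFinrankEq β₀ hinj (by
    rw [Module.finrank_pi_fintype, Fin.sum_univ_two, hfr, Module.finrank_fintype_fun_eq_card, card_I4])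
  have hββ : ∀ x, β x = β₀ x := fun _ => rfl
  rw [card_norm ρ β (fun k x => ?_) (sympForm 2 F) (spGL 2 F) (fun g => Iff.rfl)]
  · -- the determinants
    have hc : ∀ σ : E ≃ₐ[F] E, ∃ c : E, ∀ z, ℓ (z * c) = ℓ (σ.symm z) := by
      intro σ
      obtain ⟨c, hc⟩ := exists_rep hℓ (ℓ ∘ₗ σ.symm.toLinearMap)
      exact ⟨c, fun z => (hc z).symm⟩
    choose c hc using hc
    have hc0 : ∀ σ, c σ ≠ 0 := by
      intro σ h0
      apply hℓ
      ext z
      have := hc σ (σ z)
      rw [h0, mul_zero, map_zero, AlgEquiv.symm_apply_apply] at this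
      rw [← this, LinearMap.zero_apply]
    have hiff : ∀ t : (E ≃ₐ[F] E) × GL (Fin 2) E,
        (∀ x y, sympForm 2 F (β (semi t.2 t.1 x)) (β (semi t.2 t.1 y)) = sympForm 2 F (β x) (β y)) ↔
          (t.2 : Matrix (Fin 2) (Fin 2) E).det = c t.1 := by
      rintro ⟨σ, A⟩
      have h1 : ∀ x y, sympForm 2 F (β (semi A σ x)) (β (semi A σ y)) =
          ℓ (σ (dt x y) * (A : Matrix (Fin 2) (Fin 2) E).det) := by
        intro x y
        rw [← hφ, hββ, hββ, hφβ, dt_semi, mul_comm]
      have h2 : ∀ x y, sympForm 2 F (β x) (β y) = ℓ (dt x y) := by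
        intro x y
        rw [← hφ, hββ, hββ, hφβ]
      constructor
      · intro h
        apply ell_ext hℓ
        intro k
        have h3 := h ![σ.symm k, 0] ![0, 1]
        have h4 : dt ![σ.symm k, 0] ![0, (1 : E)] = σ.symm k := by
          unfold dt
          simp
        rw [h1, h2, h4, AlgEquiv.apply_symm_apply] at h3
        rw [h3, ← hc]
      · intro h x y
        simp only at h
        rw [h1, h2, h, hc, AlgEquiv.symm_apply_apply]
    rw [Nat.card_congr (Equiv.subtypeEquivRight hiff), card_det c hc0, card_SL2 (q := Fintype.card E) rfl,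
      IsGalois.card_aut_eq_finrank, hfr, Module.card_eq_pow_finrank (K := F) (V := E), hfr, ← pow_mul,
      Nat.card_eq_fintype_card]
  · rw [hββ, hββ, ← hsmul, hβ₀, hβ₀, smul_add, smul_smul, smul_smul]
    rfl

/-- **The order of `Sp₂(q²).2`.** -/
theorem card_T4 {K : Subalgebra F (Matrix I4 I4 F)} (hK : IsFieldSubalgebra 2 K)
    (hsa : IsSelfAdjointFor (sympForm 2 F) K) (hkv : ∀ k ∈ K, ∀ v : I4 → F, (sympForm 2 F) (Matrix.mulVec k v) v = 0) :
    Nat.card ↥(subalgebraNormalizer K ⊓ spGL 2 F) = 2 * (Nat.card F ^ 2 * (Nat.card F ^ 4 - 1)) := by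
  obtain ⟨E, hE, hA, ρ, rfl, hfr⟩ := Cfsg.Agent.H954.FieldSub.exists_field hK
  have : FiniteDimensional F E := Module.finite_of_finrank_pos (by rw [hfr]; norm_num)
  exact card_four hfr ρ (fun k x y => hsa _ ⟨k, rfl⟩ x y) (fun k x => hkv _ ⟨k, rfl⟩ x)

end Cfsg.Agent.H930.SpOrd
end

-- part: H930/SpOrdC
section
/-!
# The order of `GU₂(q).2 < Sp₄(q)`
-/

set_option autoImplicit false
set_option linter.unusedSectionVars false

namespace Cfsg.Agent.H930.SpOrd

open Module Matrix Cfsg Cfsg.Geo
open scoped MatrixGroups Matrix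
open Cfsg.Agent.ClassicalGeometry.SympBasic
open Cfsg.Agent.H879.ExtField (modOf)
open Cfsg.Agent.LieClassical.HermBasic

/-- Coordinates for a hermitian form. -/
theorem exists_herm_coord {K V : Type*} [Field K] [Fintype K] [AddCommGroup V] [Module K V] [Finite V] {Q : ℕ}
    (hK : Fintype.card K = Q ^ 2) (φ : V → V → K) (hadd : ∀ x y z, φ (x + y) z = φ x z + φ y z)
    (hsmul : ∀ (k : K) x y, φ (k • x) y = k * φ x y) (hswap : ∀ x y, φ y x = φ x y ^ Q)
    (hnd : ∀ x, (∀ y, φ x y = 0) → x = 0) :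
    ∃ (m : ℕ) (β : (Fin m → K) ≃ₗ[K] V), ∀ x y, φ (β x) (β y) = hermForm m K Q x y := by
  have hadd' : ∀ x y z, φ z (x + y) = φ z x + φ z y := by
    intro x y z
    rw [hswap (x + y) z, hadd, add_pow_q hK, ← hswap, ← hswap]
  have hsmul' : ∀ (k : K) x y, φ y (k • x) = k ^ Q * φ y x := by
    intro k x y
    rw [hswap (k • x) y, hsmul, mul_pow, ← hswap]
  let B : V →ₛₗ[((conj hK : K ≃+* K) : K →+* K)] V →ₗ[K] K :=
    LinearMap.mk₂'ₛₗ _ _ (fun u v => φ v u) (fun u u' v => hadd' _ _ _) (fun a u v => hsmul' _ _ _)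
      (fun u v v' => hadd _ _ _) (fun a u v => hsmul _ _ _)
  have hB : ∀ u v, B u v = φ v u := fun u v => rfl
  have hsymm : B.IsSymm := by
    constructor
    intro u v
    show (φ v u) ^ Q = φ u v
    exact (hswap _ _).symm
  have hsep : B.SeparatingLeft := by
    intro u hu
    apply hnd
    intro y
    rw [hswap y u, ← hB, hu, zero_pow_q hK]
  have hne : ((conj hK : K ≃+* K) : K →+* K) ≠ RingHom.id K := by
    intro h
    obtain ⟨x, hx⟩ := exists_not_fixed hK
    exact hx (congrArg (fun g : K →+* K => g x) h)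
  have : Module.Finite K V := Module.Finite.of_finite
  obtain ⟨e, he⟩ := Cfsg.Agent.ClassicalGeometry.HermOrthonormal.exists_orthonormal_basis hne
    (fun a => pow_q_pow_q hK a) B hsymm hsep
  refine ⟨finrank K V, e.equivFun.symm, fun x y => ?_⟩
  have hsum : ∀ (s : Finset (Fin (finrank K V))) (w : Fin (finrank K V) → V) z,
      φ (∑ i ∈ s, w i) z = ∑ i ∈ s, φ (w i) z := by
    intro s w z
    show B z _ = ∑ i ∈ s, B z (w i)
    rw [map_sum]
  rw [Basis.equivFun_symm_apply, hsum, herm_def]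
  refine Finset.sum_congr rfl fun i _ => ?_
  rw [hsmul]
  congr 1
  rw [hswap (e.equivFun.symm y) (e i), Basis.equivFun_symm_apply, hsum]
  congr 1
  rw [Finset.sum_eq_single i]
  · rw [hsmul, ← hB, he, if_pos rfl, mul_one]
  · intro j _ hji
    rw [hsmul, ← hB, he, if_neg (Ne.symm hji), mul_zero]
  · intro h
    exact absurd (Finset.mem_univ i) h

/-- Similitudes with prescribed multipliers. -/
theorem card_simil {G K : Type*} [Field K] [Fintype K] {q : ℕ} (e : G → K)
    (he : ∀ g, ∃ c : K, c * c ^ q = e g) (h0 : ∀ g, e g ≠ 0) {n : ℕ} :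
    Nat.card {t : G × GL (Fin n) K // ∀ x y, hermForm n K q ((t.2 : Matrix (Fin n) (Fin n) K) *ᵥ x)
      ((t.2 : Matrix (Fin n) (Fin n) K) *ᵥ y) = e t.1 * hermForm n K q x y} =
      Nat.card G * Nat.card (GU n K q) := by
  rw [← Nat.card_prod]
  apply Nat.card_congr
  choose c hc using he
  have hc0 : ∀ g, c g ≠ 0 := by
    intro g h
    apply h0 g
    rw [← hc, h, zero_mul]
  have hinv : ∀ g, (c g)⁻¹ * ((c g)⁻¹ ^ q) * e g = 1 := by
    intro g
    rw [← hc, inv_pow]
    have := pow_ne_zero q (hc0 g)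
    have := hc0 g
    field_simp
  let D : G → GL (Fin n) K := fun g => Matrix.GeneralLinearGroup.scalar (Fin n) (Units.mk0 (c g) (hc0 g))
  have hD : ∀ g, ((D g : GL (Fin n) K) : Matrix (Fin n) (Fin n) K) = Matrix.scalar (Fin n) (c g) := fun g => rfl
  have hDx : ∀ g x, ((D g : GL (Fin n) K) : Matrix (Fin n) (Fin n) K) *ᵥ x = c g • x := by
    intro g x
    rw [hD, Matrix.scalar_apply, ← Matrix.smul_one_eq_diagonal, Matrix.smul_mulVec, Matrix.one_mulVec]
  have hDi : ∀ g x, (((D g)⁻¹ : GL (Fin n) K) : Matrix (Fin n) (Fin n) K) *ᵥ x = (c g)⁻¹ • x := by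
    intro g x
    have h1 := hDx g ((c g)⁻¹ • x)
    rw [smul_smul, mul_inv_cancel₀ (hc0 g), one_smul] at h1
    have h2 := congrArg (fun v => (((D g)⁻¹ : GL (Fin n) K) : Matrix (Fin n) (Fin n) K) *ᵥ v) h1
    simp only [Matrix.mulVec_mulVec, ← Units.val_mul, inv_mul_cancel, Units.val_one, Matrix.one_mulVec] at h2
    exact h2.symm
  exact
    { toFun := fun t => (t.1.1, ⟨(D t.1.1)⁻¹ * t.1.2, by
        rw [Cfsg.Agent.H918.mem_GU]
        intro x y
        rw [Units.val_mul, ← Matrix.mulVec_mulVec, ← Matrix.mulVec_mulVec, hDi, hDi, herm_smul_left,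
          herm_smul_right, t.2, ← mul_assoc, ← mul_assoc, hinv, one_mul]⟩)
      invFun := fun t => ⟨(t.1, D t.1 * (t.2 : GL (Fin n) K)), by
        intro x y
        show hermForm n K q (((D t.1 * (t.2 : GL (Fin n) K) : GL (Fin n) K) : Matrix (Fin n) (Fin n) K) *ᵥ x)
          (((D t.1 * (t.2 : GL (Fin n) K) : GL (Fin n) K) : Matrix (Fin n) (Fin n) K) *ᵥ y) = _
        rw [Units.val_mul, ← Matrix.mulVec_mulVec, ← Matrix.mulVec_mulVec, hDx, hDx, herm_smul_left,
          herm_smul_right, (Cfsg.Agent.H918.mem_GU.1 t.2.2), ← mul_assoc, hc]⟩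
      left_inv := fun t => by
        apply Subtype.ext
        refine Prod.ext rfl ?_
        show D t.1.1 * ((D t.1.1)⁻¹ * t.1.2) = _
        rw [mul_inv_cancel_left]
      right_inv := fun t => by
        refine Prod.ext rfl ?_
        apply Subtype.ext
        show (D t.1)⁻¹ * (D t.1 * (t.2 : GL (Fin n) K)) = _
        rw [inv_mul_cancel_left] }

/-- `|GU₂(q)|` -/
theorem card_GU2 {K : Type*} [Field K] [Fintype K] {q : ℕ} (hK : Fintype.card K = q ^ 2) :
    Nat.card (GU 2 K q) = q * (q + 1) * (q ^ 2 - 1) := by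
  have h1 := Cfsg.Agent.S0277.result hK 2
  rw [Finset.prod_range_succ, Finset.prod_range_succ, Finset.prod_range_zero] at h1
  rw [h1]
  simp
  ring

variable {F : Type*} [Field F] [Fintype F]

theorem two_coord {E : Type*} [Field E] [Algebra F E] {κ : E} (hκ : ∀ c : F, κ ≠ algebraMap F E c) {a b a' b' : F}
    (h : algebraMap F E a + algebraMap F E b * κ = algebraMap F E a' + algebraMap F E b' * κ) : a = a' ∧ b = b' := by
  have hb : b = b' := by
    by_contra hb
    apply hκ ((a' - a) / (b - b'))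
    have h1 : (algebraMap F E b - algebraMap F E b') ≠ 0 := by
      rw [← map_sub]
      exact fun h0 => hb (sub_eq_zero.1 ((algebraMap F E).injective (by rw [h0, map_zero])))
    rw [map_div₀, map_sub, map_sub, eq_div_iff h1]
    linear_combination h
  subst hb
  refine ⟨(algebraMap F E).injective ?_, rfl⟩
  linear_combination h

theorem card_five (h2 : (2 : F) ≠ 0) {E : Type*} [Field E] [Algebra F E] [FiniteDimensional F E]
    (hfr : finrank F E = 2) (ρ : E →ₐ[F] Matrix I4 I4 F) {κ : E} (hκ : ∀ c : F, κ ≠ algebraMap F E c)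
    (hadj : ∀ x y, sympForm 2 F (ρ κ *ᵥ x) y = - sympForm 2 F x (ρ κ *ᵥ y)) :
    Nat.card ↥(subalgebraNormalizer ρ.range ⊓ spGL 2 F) =
      2 * (Nat.card F * (Nat.card F + 1) * (Nat.card F ^ 2 - 1)) := by
  have hfin : Finite E := Module.finite_of_finite F
  let _ : Fintype E := Fintype.ofFinite E
  set q := Nat.card F with hq
  have hcE : Fintype.card E = q ^ 2 := by
    rw [Module.card_eq_pow_finrank (K := F) (V := E), hfr, hq, Nat.card_eq_fintype_card]
  have hpowF : ∀ c : F, c ^ q = c := by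
    intro c
    rw [hq, Nat.card_eq_fintype_card]
    exact FiniteField.pow_card c
  -- E = F + F κ
  have hspan : ∀ z : E, ∃ a b : F, z = algebraMap F E a + algebraMap F E b * κ := by
    have hli : LinearIndependent F ![(1 : E), κ] := by
      rw [LinearIndependent.pair_iff]
      intro s t hst
      rw [Algebra.smul_def, Algebra.smul_def, mul_one] at hst
      have h3 := two_coord hκ (a := s) (b := t) (a' := 0) (b' := 0) (by rw [hst]; simp)
      exact h3
    have hsp := hli.span_eq_top_of_card_eq_finrank (by rw [hfr]; simp)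
    intro z
    have hz : z ∈ Submodule.span F (Set.range ![(1 : E), κ]) := by rw [hsp]; trivial
    rw [Submodule.mem_span_range_iff_exists_fun] at hz
    obtain ⟨c, hc⟩ := hz
    rw [Fin.sum_univ_two] at hc
    refine ⟨c 0, c 1, ?_⟩
    rw [← hc, Algebra.smul_def, Algebra.smul_def]
    simp
  have hρalg : ∀ (c : F) (v : I4 → F), ρ (algebraMap F E c) *ᵥ v = c • v := by
    intro c v
    rw [AlgHom.commutes, Algebra.algebraMap_eq_smul_one, smul_mulVec, one_mulVec]
  -- κ² ∈ F
  obtain ⟨d, hd⟩ : ∃ d : F, κ * κ = algebraMap F E d := by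
    obtain ⟨d, b, hdb⟩ := hspan (κ * κ)
    have hb : b = 0 := by
      by_contra hb
      have h3 : ∀ x y, sympForm 2 F x (ρ κ *ᵥ y) = 0 := by
        intro x y
        have h4 : sympForm 2 F (ρ (κ * κ) *ᵥ x) y = sympForm 2 F x (ρ (κ * κ) *ᵥ y) := by
          rw [map_mul, ← mulVec_mulVec, ← mulVec_mulVec, hadj, hadj, neg_neg]
        rw [hdb, map_add, map_mul, add_mulVec, add_mulVec, ← mulVec_mulVec, ← mulVec_mulVec, hρalg, hρalg, hρalg,
          hρalg, sympForm_add_left, sympForm_add_right, sympForm_smul_left, sympForm_smul_left,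
          sympForm_smul_right, sympForm_smul_right, hadj] at h4
        have h5 : 2 * (b * sympForm 2 F x (ρ κ *ᵥ y)) = 0 := by linear_combination -h4
        exact (mul_eq_zero.1 ((mul_eq_zero.1 h5).resolve_left h2)).resolve_left hb
      apply hκ 0
      rw [map_zero]
      have h6 : ρ κ = 0 := by
        apply Matrix.mulVec_injective
        funext v
        show ρ κ *ᵥ v = (0 : Matrix I4 I4 F) *ᵥ v
        rw [zero_mulVec]
        exact eq_zero_of_forall_sympForm_left fun w => h3 w v
      apply ρ.toRingHom.injective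
      show ρ κ = ρ 0
      rw [h6, map_zero]
    refine ⟨d, ?_⟩
    rw [hdb, hb, map_zero, zero_mul, add_zero]
  have hκ0 : κ ≠ 0 := by
    intro h
    apply hκ 0
    rw [h, map_zero]
  have h2E : (2 : E) ≠ 0 := by
    intro h
    apply h2
    apply (algebraMap F E).injective
    rw [map_zero, map_ofNat, h]
  have hκq : κ ^ q = -κ := by
    have h3 : κ ^ q * κ ^ q = κ * κ := by
      rw [← mul_pow, hd, ← map_pow, hpowF]
    have h4 : (κ ^ q - κ) * (κ ^ q + κ) = 0 := by linear_combination h3
    rcases mul_eq_zero.1 h4 with h5 | h5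
    · exfalso
      have h6 : κ ^ Fintype.card F = κ := by
        rw [← Nat.card_eq_fintype_card, ← hq]
        exact sub_eq_zero.1 h5
      obtain ⟨c, hc⟩ := Cfsg.Agent.H930.Prm.exists_alg_of_pow h6
      exact hκ c hc
    · exact eq_neg_of_add_eq_zero_left h5
  let instM : Module E (I4 → F) := modOf ρ
  have hsmul : ∀ (k : E) (v : I4 → F), k • v = ρ k *ᵥ v := fun _ _ => rfl
  have instT : IsScalarTower F E (I4 → F) := by
    refine ⟨fun c k v => ?_⟩
    rw [hsmul, hsmul, map_smul, smul_mulVec]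
  have hsmulF : ∀ (c : F) (v : I4 → F), algebraMap F E c • v = c • v := fun c v => hρalg c v
  -- the hermitian form
  let H : (I4 → F) → (I4 → F) → E := fun x y =>
    algebraMap F E (sympForm 2 F (ρ κ *ᵥ x) y) + algebraMap F E (sympForm 2 F x y) * κ
  have hH : ∀ x y, H x y = algebraMap F E (sympForm 2 F (ρ κ *ᵥ x) y) + algebraMap F E (sympForm 2 F x y) * κ :=
    fun _ _ => rfl
  have hHadd : ∀ x y z, H (x + y) z = H x z + H y z := by
    intro x y z
    rw [hH, hH, hH, mulVec_add, sympForm_add_left, sympForm_add_left, map_add, map_add]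
    ring
  have hHκ : ∀ x y, H (ρ κ *ᵥ x) y = κ * H x y := by
    intro x y
    rw [hH, hH, mulVec_mulVec, ← map_mul, hd, hρalg, sympForm_smul_left, map_mul, ← hd]
    ring
  have hHc : ∀ (c : F) x y, H (c • x) y = algebraMap F E c * H x y := by
    intro c x y
    rw [hH, hH, mulVec_smul, sympForm_smul_left, sympForm_smul_left, map_mul, map_mul]
    ring
  have hHsmul : ∀ (k : E) x y, H (k • x) y = k * H x y := by
    intro k x y
    obtain ⟨a, b, rfl⟩ := hspan k
    rw [hsmul, map_add, map_mul, add_mulVec, ← mulVec_mulVec, hρalg, hρalg, hHadd, hHc, hHc, hHκ]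
    ring
  have hHswap : ∀ x y, H y x = H x y ^ q := by
    intro x y
    rw [hH, hH, add_pow_q hcE, mul_pow, ← map_pow, ← map_pow, hpowF, hpowF, hκq, sympForm_swap y x,
      sympForm_swap (ρ κ *ᵥ y) x, hadj x y]
    simp only [map_neg]
    ring
  have hHnd : ∀ x, (∀ y, H x y = 0) → x = 0 := by
    intro x hx
    apply eq_zero_of_forall_sympForm_right
    intro y
    have h3 := hx y
    rw [hH] at h3
    exact (two_coord hκ (a' := 0) (b' := 0) (by rw [h3]; simp)).2
  obtain ⟨m, β₁, hβ₁⟩ := exists_herm_coord hcE H hHadd hHsmul hHswap hHnd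
  have hm : m = 2 := by
    have h3 : finrank E (I4 → F) = m := by rw [← β₁.finrank_eq, finrank_fin_fun]
    have hfr99 : Module.Free E (I4 → F) := Module.Free.of_divisionRing _ _
    have hst99 : IsScalarTower F E (I4 → F) := by first | exact Subalgebra.isScalarTower_mid _ | infer_instance
    have h4 := Module.finrank_mul_finrank F E (I4 → F)
    rw [hfr, h3, Module.finrank_fintype_fun_eq_card, card_I4] at h4
    omega
  subst hm
  let β : (Fin 2 → E) ≃ₗ[F] (I4 → F) := β₁.restrictScalars F
  have hβ : ∀ x, β x = β₁ x := fun _ => rfl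
  rw [card_norm ρ β (fun k x => ?_) (sympForm 2 F) (spGL 2 F) (fun g => Iff.rfl)]
  · -- the multipliers
    have hε : ∀ σ : E ≃ₐ[F] E, σ κ = κ ∨ σ κ = -κ := by
      intro σ
      have h3 : σ κ * σ κ = κ * κ := by rw [← map_mul, hd, σ.commutes]
      have h4 : (σ κ - κ) * (σ κ + κ) = 0 := by linear_combination h3
      rcases mul_eq_zero.1 h4 with h5 | h5
      · exact Or.inl (sub_eq_zero.1 h5)
      · exact Or.inr (eq_neg_of_add_eq_zero_left h5)
    let e : (E ≃ₐ[F] E) → E := fun σ => σ κ / κ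
    have heκ : ∀ σ, σ κ = e σ * κ := fun σ => by
      show σ κ = σ κ / κ * κ
      rw [div_mul_cancel₀ _ hκ0]
    have he1 : ∀ σ, e σ = 1 ∨ e σ = -1 := by
      intro σ
      rcases hε σ with h3 | h3
      · left; show σ κ / κ = 1; rw [h3, div_self hκ0]
      · right; show σ κ / κ = -1; rw [h3, neg_div, div_self hκ0]
    have hee : ∀ σ, e σ * e σ = 1 := by
      intro σ
      rcases he1 σ with h3 | h3 <;> rw [h3] <;> ring
    have heF : ∀ σ, ∃ c : F, e σ = algebraMap F E c := by
      intro σ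
      rcases he1 σ with h3 | h3
      · exact ⟨1, by rw [h3, map_one]⟩
      · exact ⟨-1, by rw [h3, map_neg, map_one]⟩
    have he0 : ∀ σ, e σ ≠ 0 := by
      intro σ h3
      have := hee σ
      rw [h3, zero_mul] at this
      exact zero_ne_one this
    have hiff : ∀ t : (E ≃ₐ[F] E) × GL (Fin 2) E,
        (∀ x y, sympForm 2 F (β (semi t.2 t.1 x)) (β (semi t.2 t.1 y)) = sympForm 2 F (β x) (β y)) ↔
          (∀ x y, hermForm 2 E q ((t.2 : Matrix (Fin 2) (Fin 2) E) *ᵥ x)
            ((t.2 : Matrix (Fin 2) (Fin 2) E) *ᵥ y) = e t.1 * hermForm 2 E q x y) := by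
      rintro ⟨σ, A⟩
      simp only
      -- action of σ on the form
      have hσherm : ∀ x y : Fin 2 → E, hermForm 2 E q (fun i => σ (x i)) (fun i => σ (y i)) =
          σ (hermForm 2 E q x y) := by
        intro x y
        rw [herm_def, herm_def, map_sum]
        refine Finset.sum_congr rfl fun i _ => ?_
        rw [map_mul, map_pow]
      have hsemiκ : ∀ x, β (semi A σ (κ • x)) = e σ • (ρ κ *ᵥ β (semi A σ x)) := by
        intro x
        rw [semi_smul, heκ, mul_smul, hβ, hβ, map_smul, map_smul]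
        rfl
      have hform : ∀ x y, H (β x) (β y) = hermForm 2 E q x y := fun x y => hβ₁ x y
      constructor
      · intro h
        -- the hermitian form
        have h3 : ∀ x y, H (β (semi A σ x)) (β (semi A σ y)) = e σ * σ (H (β x) (β y)) := by
          intro x y
          obtain ⟨c, hc⟩ := heF σ
          have hcc : c * c = 1 := by
            apply (algebraMap F E).injective
            rw [map_mul, ← hc, hee, map_one]
          have h4 := h (κ • x) y
          rw [hsemiκ, hc, hsmulF, sympForm_smul_left] at h4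
          have h5 : β (κ • x) = ρ κ *ᵥ β x := by
            rw [hβ, hβ, map_smul]
            rfl
          rw [h5] at h4
          have h6 : sympForm 2 F (ρ κ *ᵥ β (semi A σ x)) (β (semi A σ y)) = c * sympForm 2 F (ρ κ *ᵥ β x) (β y) := by
            rw [← h4, ← mul_assoc, hcc, one_mul]
          have h7 : algebraMap F E c * algebraMap F E c = 1 := by rw [← map_mul, hcc, map_one]
          have h8 : σ (H (β x) (β y)) = algebraMap F E (sympForm 2 F (ρ κ *ᵥ β x) (β y)) +
              algebraMap F E (sympForm 2 F (β x) (β y)) * (algebraMap F E c * κ) := by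
            rw [hH, map_add, map_mul σ, σ.commutes, σ.commutes, heκ, hc]
          rw [h8, hH, h6, h, hc, map_mul]
          linear_combination (-(algebraMap F E (sympForm 2 F (β x) (β y))) * κ) * h7
        intro x y
        have h4 := h3 (fun i => σ.symm (x i)) (fun i => σ.symm (y i))
        rw [hform, hform, ← hσherm] at h4
        unfold semi at h4
        simpa using h4
      · intro h x y
        have h3 : H (β (semi A σ x)) (β (semi A σ y)) = e σ * σ (H (β x) (β y)) := by
          rw [hform, hform]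
          unfold semi
          rw [h, hσherm]
        rw [hH, hH, map_add, map_mul, σ.commutes, σ.commutes, heκ] at h3
        obtain ⟨c, hc⟩ := heF σ
        have h4 := hee σ
        have h5 := two_coord hκ (a := sympForm 2 F (ρ κ *ᵥ β (semi A σ x)) (β (semi A σ y)))
          (b := sympForm 2 F (β (semi A σ x)) (β (semi A σ y)))
          (a' := c * sympForm 2 F (ρ κ *ᵥ β x) (β y)) (b' := sympForm 2 F (β x) (β y)) (by
            rw [h3, map_mul, ← hc]
            linear_combination (algebraMap F E (sympForm 2 F (β x) (β y)) * κ) * h4)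
        exact h5.2
    rw [Nat.card_congr (Equiv.subtypeEquivRight hiff), card_simil e (fun σ => ?_) he0, card_GU2 hcE,
      IsGalois.card_aut_eq_finrank, hfr]
    apply exists_norm_eq hcE
    obtain ⟨c, hc⟩ := heF σ
    rw [hc, ← map_pow, hpowF]
  · rw [hβ, hβ, map_smul]
    rfl

/-- **The order of `GU₂(q).2`.** -/
theorem card_T5 (h2 : (2 : F) ≠ 0) {K : Subalgebra F (Matrix I4 I4 F)} (hK : IsFieldSubalgebra 2 K)
    (hac : IsAdjointClosedFor (sympForm 2 F) K) (hns : ¬ IsSelfAdjointFor (sympForm 2 F) K) :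
    Nat.card ↥(subalgebraNormalizer K ⊓ spGL 2 F) =
      2 * (Nat.card F * (Nat.card F + 1) * (Nat.card F ^ 2 - 1)) := by
  obtain ⟨E, hE, hA, ρ, rfl, hfr⟩ := Cfsg.Agent.H954.FieldSub.exists_field hK
  have : FiniteDimensional F E := Module.finite_of_finrank_pos (by rw [hfr]; norm_num)
  obtain ⟨k, hk, hkn⟩ : ∃ k ∈ ρ.range, ¬ ∀ u v, sympForm 2 F (k *ᵥ u) v = sympForm 2 F u (k *ᵥ v) := by
    by_contra hcon
    push Not at hcon
    exact hns hcon
  obtain ⟨k', hk', hadj⟩ := hac k hk
  have hadj' : ∀ u v, sympForm 2 F (k' *ᵥ u) v = sympForm 2 F u (k *ᵥ v) := by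
    intro u v
    rw [sympForm_swap, ← hadj, sympForm_swap, neg_neg]
  obtain ⟨a, rfl⟩ := hk
  obtain ⟨b, rfl⟩ := hk'
  change ∀ u v, sympForm 2 F (ρ a *ᵥ u) v = sympForm 2 F u (ρ b *ᵥ v) at hadj
  change ∀ u v, sympForm 2 F (ρ b *ᵥ u) v = sympForm 2 F u (ρ a *ᵥ v) at hadj'
  have hκadj : ∀ u v, sympForm 2 F (ρ (a - b) *ᵥ u) v = - sympForm 2 F u (ρ (a - b) *ᵥ v) := by
    intro u v
    rw [map_sub, sub_mulVec, sub_mulVec, sympForm_sub_left, sympForm_sub_right, hadj, hadj']
    ring
  refine card_five h2 hfr ρ (κ := a - b) (fun c hc => ?_) hκadj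
  have h1 : ∀ u v, 2 * (c * sympForm 2 F u v) = 0 := by
    intro u v
    have := hκadj u v
    rw [hc, AlgHom.commutes, Algebra.algebraMap_eq_smul_one, smul_mulVec, smul_mulVec, one_mulVec, one_mulVec,
      sympForm_smul_left, sympForm_smul_right] at this
    linear_combination this
  have hc0 : c = 0 := by
    by_contra hc0
    have h3 : (1 : I4 → F) = 0 := eq_zero_of_forall_sympForm_left fun w =>
      (mul_eq_zero.1 ((mul_eq_zero.1 (h1 w 1)).resolve_left h2)).resolve_left hc0
    exact one_ne_zero h3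
  rw [hc0, map_zero, sub_eq_zero] at hc
  apply hkn
  intro u v
  show sympForm 2 F (ρ a *ᵥ u) v = sympForm 2 F u (ρ a *ᵥ v)
  rw [hadj, hc]

end Cfsg.Agent.H930.SpOrd
end
end
end
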